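import Cfsg.Agent.Base
import Cfsg.Agent.RankOne.Center

/-!
The functions `g, h, f` of a split rank-one pair (`t x t = g h t f`), as a predicate `Can`, with the
identities (H1)-(H6); the subgroup `S H ∪ S H t S`; the structure equation `t s t = r⁻¹ t r` when
`r ^ 4 = 1`; strongly real elements fix at most two points.
-/

set_option autoImplicit false

namespace CL.ROR

open Cfsg MulAction CL.RankOne

variable {G Ω : Type*} [Group G] [MulAction G Ω] {a : Ω} {t : G} {Q : Subgroup G}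

/-- `t x t = g h t f` with `g, f ∈ Q`, `h ∈ D`. -/
structure Can (a : Ω) (t : G) (Q : Subgroup G) (x g h f : G) : Prop where
  g_mem : g ∈ Q
  h_mem : h ∈ DD a t
  f_mem : f ∈ Q
  eq : t * x * t = g * h * t * f

section setup
variable (hS : IsRankOneSetup G Ω a t Q)
include hS

theorem exists_can {x : G} (hx : x ∈ Q) (hx1 : x ≠ 1) : ∃ g h f, Can a t Q x g h f := by
  obtain ⟨g, h, f, hg, hh, hf, e⟩ := canon3_exists hS (t_conj_smul_ne hS hx hx1)
  exact ⟨g, h, f, hg, hh, hf, e⟩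

theorem Can.unique {x g h f g' h' f' : G} (c : Can a t Q x g h f) (c' : Can a t Q x g' h' f') :
    g = g' ∧ h = h' ∧ f = f' :=
  canon3_unique hS c.g_mem c.h_mem c.f_mem c'.g_mem c'.h_mem c'.f_mem (c.eq.symm.trans c'.eq)

/-- `t` maps the point `x • t • a` to `g • t • a`. -/
theorem Can.smul {x g h f : G} (c : Can a t Q x g h f) : t • x • t • a = g • t • a := by
  have : (t * x * t) • a = (g * h * t * f) • a := by rw [c.eq]
  simp only [mul_smul] at this
  rw [this, smul_of_mem_Q hS c.f_mem, c.h_mem.2]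

theorem Can.ne_one {x g h f : G} (c : Can a t Q x g h f) : x ≠ 1 := by
  rintro rfl
  have := c.smul hS
  rw [one_smul, tta hS] at this
  exact smul_ne_of_smul_eq hS (smul_of_mem_Q hS c.g_mem) (ta_ne hS) this.symm

/-- (H1), (H4). -/
theorem Can.inv {x g h f : G} (c : Can a t Q x g h f) :
    Can a t Q x⁻¹ f⁻¹ (t * h⁻¹ * t) g⁻¹ := by
  have htt := hS.mul_self
  have hti := t_inv hS
  refine ⟨Q.inv_mem c.f_mem, t_conj_mem_DD hS (Subgroup.inv_mem _ c.h_mem), Q.inv_mem c.g_mem, ?_⟩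
  calc t * x⁻¹ * t = (t * x * t)⁻¹ := by simp only [mul_inv_rev, hti, mul_assoc]
    _ = f⁻¹ * (t * h⁻¹ * (t * t)) * g⁻¹ := by
      rw [c.eq, htt]; simp only [mul_inv_rev, hti, mul_assoc, mul_one]
    _ = _ := by simp only [mul_assoc]

/-- (H2), (H4) for `f`. -/
theorem Can.at_f {x g h f : G} (c : Can a t Q x g h f) (hx : x ∈ Q) :
    Can a t Q f (h⁻¹ * g⁻¹ * h) h⁻¹ x := by
  refine ⟨conj_mem_Q' hS c.h_mem.1 (Q.inv_mem c.g_mem), Subgroup.inv_mem _ c.h_mem, hx, ?_⟩
  have : t * f = (g * h)⁻¹ * (t * x * t) := by rw [c.eq]; group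
  rw [this, mul_assoc, mul_assoc (t * x), hS.mul_self]; group

theorem tt (x : G) : t * (t * x) = x := by rw [← mul_assoc, hS.mul_self, one_mul]

/-- (H2) for `g`. -/
theorem Can.at_g {x g h f : G} (c : Can a t Q x g h f) (hx : x ∈ Q) :
    Can a t Q g x h⁻¹ ((t * h * t) * f⁻¹ * (t * h * t)⁻¹) := by
  refine ⟨hx, Subgroup.inv_mem _ c.h_mem,
    conj_mem_Q hS (t_conj_mem_DD hS c.h_mem).1 (Q.inv_mem c.f_mem), ?_⟩
  have e : g = t * x * t * f⁻¹ * t⁻¹ * h⁻¹ := by rw [c.eq]; group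
  rw [e]
  simp only [mul_assoc, mul_inv_rev, t_inv hS, tt hS, inv_mul_cancel_left]

theorem Can.f_ne_one {x g h f : G} (c : Can a t Q x g h f) (hx : x ∈ Q) : f ≠ 1 :=
  (c.at_f hS hx).ne_one hS

theorem Can.g_ne_one {x g h f : G} (c : Can a t Q x g h f) (hx : x ∈ Q) : g ≠ 1 :=
  (c.at_g hS hx).ne_one hS

/-- (H3), (H4). -/
theorem Can.conj {x g h f d : G} (c : Can a t Q x g h f) (hd : d ∈ DD a t) :
    Can a t Q (d⁻¹ * x * d) ((t * d * t)⁻¹ * g * (t * d * t)) ((t * d * t)⁻¹ * h * d)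
      ((t * d * t)⁻¹ * f * (t * d * t)) := by
  have htt := hS.mul_self
  have hti := t_inv hS
  have hdt := t_conj_mem_DD hS hd
  refine ⟨conj_mem_Q' hS hdt.1 c.g_mem,
    Subgroup.mul_mem _ (Subgroup.mul_mem _ (Subgroup.inv_mem _ hdt) c.h_mem) hd,
    conj_mem_Q' hS hdt.1 c.f_mem, ?_⟩
  calc t * (d⁻¹ * x * d) * t = t * d⁻¹ * (t * t) * x * (t * t) * d * t := by rw [htt]; group
    _ = (t * d * t)⁻¹ * (t * x * t) * (t * d * t) := by
      simp only [mul_inv_rev, hti, mul_assoc]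
    _ = (t * d * t)⁻¹ * (g * h * (d * t * (t * d * t)⁻¹) * f) * (t * d * t) := by
      have : d * t * (t * d * t)⁻¹ = t := by
        calc d * t * (t * d * t)⁻¹ = d * d⁻¹ * t⁻¹ := by group
          _ = t := by rw [hti]; group
      rw [c.eq, this]
    _ = _ := by group

/-- (H3), (H4) for `k ∈ K`. -/
theorem Can.conjK {x g h f k : G} (c : Can a t Q x g h f) (hk : k ∈ KK a t) :
    Can a t Q (k⁻¹ * x * k) (k * g * k⁻¹) (k * h * k) (k * f * k⁻¹) := by
  have := c.conj hS hk.1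
  rwa [t_conj_of_mem_KK hS hk, inv_inv] at this

theorem Can.conjK' {x g h f k : G} (c : Can a t Q x g h f) (hk : k ∈ KK a t) :
    Can a t Q (k * x * k⁻¹) (k⁻¹ * g * k) (k⁻¹ * h * k⁻¹) (k⁻¹ * f * k) := by
  simpa only [inv_inv] using c.conjK hS (inv_mem_invertedBy hk)

/-- (H3), (H4) for `v ∈ V`. -/
theorem Can.conjV {x g h f v : G} (c : Can a t Q x g h f) (hv : v ∈ VV a t) :
    Can a t Q (v⁻¹ * x * v) (v⁻¹ * g * v) (v⁻¹ * h * v) (v⁻¹ * f * v) := by
  have := c.conj hS (mem_VV.1 hv).1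
  have e : t * v * t = v := by
    rw [← (mem_VV.1 hv).2.eq, mul_assoc, hS.mul_self, mul_one]
  rwa [e] at this

theorem Can.mul_eq {x y gx hx fx gy hy fy : G} (cx : Can a t Q x gx hx fx)
    (cy : Can a t Q y gy hy fy) :
    t * (x * y) * t = gx * hx * (t * (fx * gy) * t) * (t * hy * t) * fy := by
  have htt := hS.mul_self
  calc t * (x * y) * t = t * x * (t * t) * y * t := by rw [htt]; group
    _ = (t * x * t) * (t * y * t) := by group
    _ = gx * hx * (t * (fx * gy)) * (t * t) * hy * t * fy := by rw [cx.eq, cy.eq, htt]; group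
    _ = _ := by simp only [mul_assoc]

theorem Can.mul_ne_one {x y gx hx fx gy hy fy : G} (cx : Can a t Q x gx hx fx)
    (cy : Can a t Q y gy hy fy) (hxy : x * y ∈ Q) (hxy1 : x * y ≠ 1) : fx * gy ≠ 1 := by
  intro h1
  apply t_conj_smul_ne hS hxy hxy1
  rw [cx.mul_eq hS cy, h1, mul_one, hS.mul_self, mul_one, mul_smul, mul_smul, mul_smul,
    smul_of_mem_Q hS cy.f_mem, (t_conj_mem_DD hS cy.h_mem).1, cx.h_mem.1, smul_of_mem_Q hS cx.g_mem]

/-- (H6). -/
theorem Can.mul {x y gx hx fx gy hy fy gz hz fz : G} (cx : Can a t Q x gx hx fx)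
    (cy : Can a t Q y gy hy fy) (cz : Can a t Q (fx * gy) gz hz fz) :
    Can a t Q (x * y) (gx * (hx * gz * hx⁻¹)) (hx * hz * hy)
      ((t * hy * t)⁻¹ * fz * (t * hy * t) * fy) := by
  have hti := t_inv hS
  have hyt := t_conj_mem_DD hS cy.h_mem
  refine ⟨Q.mul_mem cx.g_mem (conj_mem_Q hS cx.h_mem.1 cz.g_mem),
    Subgroup.mul_mem _ (Subgroup.mul_mem _ cx.h_mem cz.h_mem) cy.h_mem,
    Q.mul_mem (conj_mem_Q' hS hyt.1 cz.f_mem) cy.f_mem, ?_⟩
  rw [cx.mul_eq hS cy, cz.eq]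
  have : hy * t * (t * hy * t)⁻¹ = t := by
    calc hy * t * (t * hy * t)⁻¹ = t⁻¹ := by group
      _ = t := hti
  calc gx * hx * (gz * hz * t * fz) * (t * hy * t) * fy
      = gx * hx * (gz * hz * (hy * t * (t * hy * t)⁻¹) * fz) * (t * hy * t) * fy := by rw [this]
    _ = _ := by group

omit hS in
theorem can_s {s r : G} (hr : r ∈ Q) (e : t * s * t = r⁻¹ * t * r) : Can a t Q s r⁻¹ 1 r :=
  ⟨Q.inv_mem hr, Subgroup.one_mem _, hr, by rw [e, mul_one]⟩

theorem can_r {s r : G} (hs : s ∈ Q) (hr : r ∈ Q) (e : t * s * t = r⁻¹ * t * r) :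
    Can a t Q r r 1 s := by
  simpa using (can_s (a := a) hr e).at_f hS hs

end setup

/-! ### The subgroup `S H ∪ S H t S` -/

/-- Hypotheses under which `S H ∪ S H t S` is a subgroup. -/
structure BruData (a : Ω) (t : G) (Q S H : Subgroup G) : Prop where
  S_le : S ≤ Q
  H_le : H ≤ DD a t
  conj_mem : ∀ k ∈ H, ∀ x ∈ S, k * x * k⁻¹ ∈ S
  t_conj : ∀ k ∈ H, t * k * t ∈ H
  can : ∀ x ∈ S, x ≠ 1 → ∃ g ∈ S, ∃ h ∈ H, ∃ f ∈ S, t * x * t = g * h * t * f

theorem BruData.conj_mem' {S H : Subgroup G} (B : BruData a t Q S H) {k x : G} (hk : k ∈ H)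
    (hx : x ∈ S) : k⁻¹ * x * k ∈ S := by
  simpa using B.conj_mem _ (H.inv_mem hk) x hx

/-- The set `S H ∪ S H t S`. -/
def bruSet (t : G) (S H : Subgroup G) : Set G :=
  {g | (∃ x ∈ S, ∃ k ∈ H, g = x * k) ∨ ∃ x ∈ S, ∃ k ∈ H, ∃ y ∈ S, g = x * k * t * y}

/-- The subgroup generated by `S`, `H` and `t`. -/
def bru (t : G) (S H : Subgroup G) : Subgroup G := S ⊔ H ⊔ Subgroup.closure {t}

theorem le_bru_S (t : G) (S H : Subgroup G) : S ≤ bru t S H := le_sup_left.trans le_sup_left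
theorem le_bru_H (t : G) (S H : Subgroup G) : H ≤ bru t S H := le_sup_right.trans le_sup_left
theorem t_mem_bru (t : G) (S H : Subgroup G) : t ∈ bru t S H :=
  (le_sup_right : Subgroup.closure {t} ≤ bru t S H) (Subgroup.subset_closure rfl)

theorem bru_le {t : G} {S H L : Subgroup G} (h1 : S ≤ L) (h2 : H ≤ L) (h3 : t ∈ L) :
    bru t S H ≤ L :=
  sup_le (sup_le h1 h2) ((Subgroup.closure_le _).2 (by simpa using h3))

section setup
variable (hS : IsRankOneSetup G Ω a t Q) {S H : Subgroup G} (B : BruData a t Q S H)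
include hS B

omit hS B [MulAction G Ω] in
theorem S_mul_mem_bruSet {u g : G} (hu : u ∈ S) (hg : g ∈ bruSet t S H) : u * g ∈ bruSet t S H := by
  rcases hg with ⟨x, hx, k, hk, rfl⟩ | ⟨x, hx, k, hk, y, hy, rfl⟩
  · exact Or.inl ⟨u * x, S.mul_mem hu hx, k, hk, by group⟩
  · exact Or.inr ⟨u * x, S.mul_mem hu hx, k, hk, y, hy, by group⟩

omit hS in
theorem BruData.H_mul {u g : G} (hu : u ∈ H) (hg : g ∈ bruSet t S H) : u * g ∈ bruSet t S H := by
  rcases hg with ⟨x, hx, k, hk, rfl⟩ | ⟨x, hx, k, hk, y, hy, rfl⟩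
  · exact Or.inl ⟨_, B.conj_mem u hu x hx, u * k, H.mul_mem hu hk, by group⟩
  · exact Or.inr ⟨_, B.conj_mem u hu x hx, u * k, H.mul_mem hu hk, y, hy, by group⟩

theorem BruData.t_mul {g : G} (hg : g ∈ bruSet t S H) : t * g ∈ bruSet t S H := by
  have htt := hS.mul_self
  rcases hg with ⟨x, hx, k, hk, rfl⟩ | ⟨x, hx, k, hk, y, hy, rfl⟩
  · refine Or.inr ⟨1, S.one_mem, t * k * t, B.t_conj k hk, k⁻¹ * x * k, B.conj_mem' hk hx, ?_⟩
    rw [one_mul, mul_assoc (t * k), htt]; group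
  · by_cases hx1 : x = 1
    · subst hx1
      exact Or.inl ⟨_, B.conj_mem _ (B.t_conj k hk) y hy, t * k * t, B.t_conj k hk, by group⟩
    · obtain ⟨g, hg, h, hh, f, hf, e⟩ := B.can x hx hx1
      have hk' := B.t_conj k hk
      refine Or.inr ⟨g, hg, h * k, H.mul_mem hh hk, (t * k * t)⁻¹ * f * (t * k * t) * y,
        S.mul_mem (B.conj_mem' hk' hf) hy, ?_⟩
      calc t * (x * k * t * y) = (t * x * t) * (t⁻¹ * k * t) * y := by group
        _ = g * h * (k * t * (t * k * t)⁻¹) * f * (t * k * t) * y := by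
          rw [e, t_inv hS]
          have : k * t * (t * k * t)⁻¹ = t := by
            calc k * t * (t * k * t)⁻¹ = t⁻¹ := by group
              _ = t := t_inv hS
          rw [this]
        _ = _ := by group

theorem BruData.mem_bru_iff {g : G} : g ∈ bru t S H ↔ g ∈ bruSet t S H := by
  constructor
  · intro hg
    let M : Subgroup G :=
      { carrier := {u | ∀ g, g ∈ bruSet t S H ↔ u * g ∈ bruSet t S H}
        one_mem' := by intro g; rw [one_mul]
        mul_mem' := by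
          intro u v hu hv g
          rw [mul_assoc]; exact (hv g).trans (hu _)
        inv_mem' := by
          intro u hu g
          have := hu (u⁻¹ * g)
          rw [mul_inv_cancel_left] at this
          exact this.symm }
    have hM : bru t S H ≤ M := by
      refine bru_le ?_ ?_ ?_
      · intro u hu g
        exact ⟨S_mul_mem_bruSet hu, fun h => by simpa using S_mul_mem_bruSet (S.inv_mem hu) h⟩
      · intro u hu g
        exact ⟨B.H_mul hu, fun h => by simpa using B.H_mul (H.inv_mem hu) h⟩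
      · intro g
        refine ⟨B.t_mul hS, fun h => ?_⟩
        have := B.t_mul hS h
        rwa [← mul_assoc, hS.mul_self, one_mul] at this
    have := (hM hg 1).1 (Or.inl ⟨1, S.one_mem, 1, H.one_mem, by simp⟩)
    rwa [mul_one] at this
  · have h1 := le_bru_S t S H
    have h2 := le_bru_H t S H
    have h3 := t_mem_bru t S H
    rintro (⟨x, hx, k, hk, rfl⟩ | ⟨x, hx, k, hk, y, hy, rfl⟩)
    · exact Subgroup.mul_mem _ (h1 hx) (h2 hk)
    · exact Subgroup.mul_mem _ (Subgroup.mul_mem _ (Subgroup.mul_mem _ (h1 hx) (h2 hk)) h3) (h1 hy)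

theorem BruData.fix_a {g : G} (hg : g ∈ bru t S H) (ha : g • a = a) :
    ∃ x ∈ S, ∃ k ∈ H, g = x * k := by
  rcases (B.mem_bru_iff hS).1 hg with h | ⟨x, hx, k, hk, y, hy, rfl⟩
  · exact h
  · exfalso
    rw [mul_smul, mul_smul, mul_smul, smul_of_mem_Q hS (B.S_le hy), (B.H_le hk).2] at ha
    exact smul_ne_of_smul_eq hS (smul_of_mem_Q hS (B.S_le hx)) (ta_ne hS) ha

theorem BruData.mem_H {g : G} (hg : g ∈ bru t S H) (hd : g ∈ DD a t) : g ∈ H := by
  obtain ⟨x, hx, k, hk, rfl⟩ := B.fix_a hS hg hd.1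
  have : x ∈ DD a t := by simpa using Subgroup.mul_mem _ hd (Subgroup.inv_mem _ (B.H_le hk))
  rw [eq_one_of_mem_Q_of_mem_DD hS (B.S_le hx) this, one_mul]
  exact hk

theorem BruData.mem_S {g : G} (hg : g ∈ bru t S H) (hq : g ∈ Q) : g ∈ S := by
  obtain ⟨x, hx, k, hk, rfl⟩ := B.fix_a hS hg (smul_of_mem_Q hS hq)
  have : k ∈ Q := by simpa using Q.mul_mem (Q.inv_mem (B.S_le hx)) hq
  rw [eq_one_of_mem_Q_of_mem_DD hS this (B.H_le hk), mul_one]
  exact hx

/-- The orbit of `a` under `bru t S H`. -/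
theorem BruData.smul_a {g : G} (hg : g ∈ bru t S H) :
    g • a = a ∨ ∃ x ∈ S, g • a = x • t • a := by
  rcases (B.mem_bru_iff hS).1 hg with ⟨x, hx, k, hk, rfl⟩ | ⟨x, hx, k, hk, y, hy, rfl⟩
  · left; rw [mul_smul, (B.H_le hk).1, smul_of_mem_Q hS (B.S_le hx)]
  · right
    exact ⟨x, hx, by
      rw [mul_smul, mul_smul, mul_smul, smul_of_mem_Q hS (B.S_le hy), (B.H_le hk).2]⟩

theorem BruData.card_bru :
    Nat.card (bru t S H) = Nat.card S * Nat.card H * (Nat.card S + 1) := by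
  let φ : (S × H) ⊕ (S × H × S) → bru t S H := fun z => match z with
    | Sum.inl (x, k) => ⟨x * k, (B.mem_bru_iff hS).2 (Or.inl ⟨x, x.2, k, k.2, rfl⟩)⟩
    | Sum.inr (x, k, y) =>
      ⟨x * k * t * y, (B.mem_bru_iff hS).2 (Or.inr ⟨x, x.2, k, k.2, y, y.2, rfl⟩)⟩
  have hne : ∀ (x : S) (k : H) (x' : S) (k' : H) (y : S),
      (x : G) * k ≠ x' * k' * t * y := by
    intro x k x' k' y e
    have h1 : ((x : G) * k) • a = a := by
      rw [mul_smul, (B.H_le k.2).1, smul_of_mem_Q hS (B.S_le x.2)]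
    rw [e, mul_smul, mul_smul, mul_smul, smul_of_mem_Q hS (B.S_le y.2), (B.H_le k'.2).2] at h1
    exact smul_ne_of_smul_eq hS (smul_of_mem_Q hS (B.S_le x'.2)) (ta_ne hS) h1
  have hφ : Function.Bijective φ := by
    constructor
    · rintro (⟨x, k⟩ | ⟨x, k, y⟩) (⟨x', k'⟩ | ⟨x', k', y'⟩) e
      · obtain ⟨h1, h2⟩ := decomp_unique hS (B.S_le x.2) (B.S_le x'.2) (B.H_le k.2) (B.H_le k'.2)
          (congrArg Subtype.val e)
        rw [Subtype.ext h1, Subtype.ext h2]
      · exact absurd (congrArg Subtype.val e) (hne _ _ _ _ _)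
      · exact absurd (congrArg Subtype.val e).symm (hne _ _ _ _ _)
      · obtain ⟨h1, h2, h3⟩ := canon3_unique hS (B.S_le x.2) (B.H_le k.2) (B.S_le y.2)
          (B.S_le x'.2) (B.H_le k'.2) (B.S_le y'.2) (congrArg Subtype.val e)
        rw [Subtype.ext h1, Subtype.ext h2, Subtype.ext h3]
    · rintro ⟨g, hg⟩
      rcases (B.mem_bru_iff hS).1 hg with ⟨x, hx, k, hk, rfl⟩ | ⟨x, hx, k, hk, y, hy, rfl⟩
      · exact ⟨Sum.inl (⟨x, hx⟩, ⟨k, hk⟩), rfl⟩
      · exact ⟨Sum.inr (⟨x, hx⟩, ⟨k, hk⟩, ⟨y, hy⟩), rfl⟩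
  rw [← Nat.card_eq_of_bijective φ hφ]
  by_cases hfin : Finite S ∧ Finite H
  · obtain ⟨h1, h2⟩ := hfin
    rw [Nat.card_sum, Nat.card_prod, Nat.card_prod, Nat.card_prod]; ring
  · have h0 : Nat.card S * Nat.card H = 0 := by
      rw [not_and_or, not_finite_iff_infinite, not_finite_iff_infinite] at hfin
      rcases hfin with h | h <;> simp
    have : Infinite (S × H) := by
      rw [not_and_or, not_finite_iff_infinite, not_finite_iff_infinite] at hfin
      rcases hfin with h | h <;> infer_instance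
    rw [h0, zero_mul, Nat.card_eq_zero_of_infinite]

end setup

/-- If `S = Q` and `H` is normal in `D`, the subgroup `Q H ∪ Q H t Q` is normal of index
`|D : H|`. -/
theorem bru_normal (hS : IsRankOneSetup G Ω a t Q) {H : Subgroup G}
    (hH : ∀ d ∈ DD a t, ∀ k ∈ H, d * k * d⁻¹ ∈ H) (hK : ∀ d ∈ DD a t, d * (t * d * t)⁻¹ ∈ H) :
    (bru t Q H).Normal := by
  have hD : ∀ d ∈ DD a t, d ∈ Subgroup.normalizer (bru t Q H : Set G) := by
    have aux : ∀ d ∈ DD a t, ∀ g ∈ bru t Q H, d * g * d⁻¹ ∈ bru t Q H := by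
      intro d hd g hg
      have : bru t Q H ≤ (bru t Q H).comap (MulAut.conj d).toMonoidHom := by
        refine bru_le ?_ ?_ ?_
        · intro x hx; exact le_bru_S t Q H (conj_mem_Q hS hd.1 hx)
        · intro x hx; exact le_bru_H t Q H (hH d hd x hx)
        · show d * t * d⁻¹ ∈ bru t Q H
          have e : d * t * d⁻¹ = d * (t * d * t)⁻¹ * t := by
            simp only [mul_inv_rev, t_inv hS, mul_assoc, hS.mul_self, mul_one]
          rw [e]
          exact Subgroup.mul_mem _ (le_bru_H t Q H (hK d hd)) (t_mem_bru t Q H)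
      exact this hg
    intro d hd
    rw [Subgroup.mem_normalizer_iff]
    intro g
    refine ⟨aux d hd g, fun h => ?_⟩
    simpa [mul_assoc] using aux _ (Subgroup.inv_mem _ hd) _ h
  rw [← Subgroup.normalizer_eq_top_iff, eq_top_iff]
  intro g _
  have hL : bru t Q H ≤ Subgroup.normalizer (bru t Q H : Set G) := Subgroup.le_normalizer
  by_cases hg : g • a = a
  · obtain ⟨q, hq, d, hd, rfl⟩ := decomp hS hg
    exact Subgroup.mul_mem _ (hL (le_bru_S t Q H hq)) (hD d hd)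
  · obtain ⟨q, d, y, hq, hd, hy, rfl⟩ := canon3_exists hS hg
    exact Subgroup.mul_mem _ (Subgroup.mul_mem _ (Subgroup.mul_mem _ (hL (le_bru_S t Q H hq))
      (hD d hd)) (hL (t_mem_bru t Q H))) (hL (le_bru_S t Q H hy))

theorem BruData.odd_index (hS : IsRankOneSetup G Ω a t Q) [Finite G] {H : Subgroup G}
    (B : BruData a t Q Q H) : Odd (bru t Q H).index := by
  have h1 := (bru t Q H).card_mul_index
  rw [B.card_bru hS, card_G hS] at h1
  have hpos : 0 < Nat.card Q := Nat.card_pos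
  have h2 : Nat.card H * (bru t Q H).index = Nat.card (DD a t) := by
    have : (Nat.card Q * (Nat.card Q + 1)) * (Nat.card H * (bru t Q H).index) =
        (Nat.card Q * (Nat.card Q + 1)) * Nat.card (DD a t) := by rw [← mul_assoc]; linarith
    exact Nat.eq_of_mul_eq_mul_left (by positivity) this
  exact Odd.of_dvd_nat hS.odd_card (Dvd.intro_left _ h2)

end CL.ROR
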