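import Cfsg.Agent.Base
import Cfsg.Agent.RankOneRec.Can

/-!
The subgroups `Q₀ = I ∪ {1}` and `K`; the structure equation `t s t = r⁻¹ t r` when `r ^ 4 = 1`
(either `r = s`, or `r² = s`, `s t` has order 5 and `3 ∤ |K|`); strongly real elements fix at most
two points; the subgroup `L₀ = Q₀ K ∪ Q₀ K t Q₀` when `t s t = s t s`.
-/

set_option autoImplicit false

namespace CL.ROR

open Cfsg MulAction CL.RankOne

variable {G Ω : Type*} [Group G] [MulAction G Ω] {a : Ω} {t : G} {Q : Subgroup G}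

/-- `Q₀`: the subgroup generated by the involutions of `G_a`. -/
def QZ (G : Type*) [Group G] [MulAction G Ω] (a : Ω) : Subgroup G := Subgroup.closure (II G a)

/-- The subgroup generated by the set `K`. -/
def KS (a : Ω) (t : G) : Subgroup G := Subgroup.closure (KK a t)

theorem mem_QZ_of_mem_II {s : G} (hs : s ∈ II G a) : s ∈ QZ G a := Subgroup.subset_closure hs

theorem mem_KS_of_mem_KK {k : G} (hk : k ∈ KK a t) : k ∈ KS a t := Subgroup.subset_closure hk

theorem KS_le_DD : KS a t ≤ DD a t := (Subgroup.closure_le _).2 fun _ hk => hk.1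

theorem mem_KS (hK : ∀ k ∈ KK a t, ∀ l ∈ KK a t, k * l ∈ KK a t) {k : G} :
    k ∈ KS a t ↔ k ∈ KK a t := by
  refine ⟨fun h => ?_, mem_KS_of_mem_KK⟩
  induction h using Subgroup.closure_induction with
  | mem x hx => exact hx
  | one => exact one_mem_invertedBy
  | mul x y _ _ hx hy => exact hK x hx y hy
  | inv x _ hx => exact inv_mem_invertedBy hx

theorem comm_of_K_mul (hK : ∀ k ∈ KK a t, ∀ l ∈ KK a t, k * l ∈ KK a t) {k l : G}
    (hk : k ∈ KK a t) (hl : l ∈ KK a t) : k * l = l * k := by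
  have h1 := (hK k hk l hl).2
  have : t * (k * l) * t⁻¹ = (t * k * t⁻¹) * (t * l * t⁻¹) := by group
  rw [this, hk.2, hl.2, ← mul_inv_rev, inv_inj] at h1
  exact h1.symm

theorem K_mul_of_comm (hK : ∀ k ∈ KK a t, ∀ l ∈ KK a t, k * l = l * k) :
    ∀ k ∈ KK a t, ∀ l ∈ KK a t, k * l ∈ KK a t := by
  intro k hk l hl
  refine ⟨Subgroup.mul_mem _ hk.1 hl.1, ?_⟩
  have : t * (k * l) * t⁻¹ = (t * k * t⁻¹) * (t * l * t⁻¹) := by group
  rw [this, hk.2, hl.2, ← mul_inv_rev, hK l hl k hk]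

theorem card_KS (hK : ∀ k ∈ KK a t, ∀ l ∈ KK a t, k * l ∈ KK a t) :
    Nat.card (KS a t) = Nat.card (KK a t) :=
  Nat.card_congr (Equiv.subtypeEquivRight fun _ => mem_KS hK)

section setup
variable (hS : IsRankOneSetup G Ω a t Q) [Finite G]
include hS

theorem mem_QZ {x : G} : x ∈ QZ G a ↔ x = 1 ∨ x ∈ II G a := by
  constructor
  · intro h
    induction h using Subgroup.closure_induction with
    | mem x hx => exact Or.inr hx
    | one => exact Or.inl rfl
    | mul x y _ _ hx hy =>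
      rcases hx with rfl | hx
      · simpa using hy
      · rcases hy with rfl | hy
        · exact Or.inr (by simpa using hx)
        · exact mul_mem_II hS hx hy
    | inv x _ hx =>
      rcases hx with rfl | hx
      · exact Or.inl inv_one
      · right; rwa [inv_eq_of_mul_self hx.2.2]
  · rintro (rfl | h)
    · exact Subgroup.one_mem _
    · exact mem_QZ_of_mem_II h

theorem mem_QZ_iff {x : G} : x ∈ QZ G a ↔ x ∈ Q ∧ x * x = 1 := by
  rw [mem_QZ hS]
  constructor
  · rintro (rfl | h)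
    · exact ⟨Q.one_mem, mul_one 1⟩
    · exact ⟨mem_Q_of_mem_II hS h, h.2.2⟩
  · rintro ⟨h1, h2⟩
    by_cases h : x = 1
    · exact Or.inl h
    · exact Or.inr ⟨smul_of_mem_Q hS h1, h, h2⟩

theorem mem_II_of_mem_QZ {x : G} (hx : x ∈ QZ G a) (hx1 : x ≠ 1) : x ∈ II G a :=
  ((mem_QZ hS).1 hx).resolve_left hx1

theorem QZ_le : QZ G a ≤ Q := fun _ hx => ((mem_QZ_iff hS).1 hx).1

theorem QZ_mul_self {x : G} (hx : x ∈ QZ G a) : x * x = 1 := ((mem_QZ_iff hS).1 hx).2

theorem QZ_comm {x y : G} (hx : x ∈ QZ G a) (hy : y ∈ Q) : x * y = y * x := by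
  rcases (mem_QZ hS).1 hx with rfl | hx
  · simp
  · exact (commute_of_mem_II hS hx hy).eq

theorem conj_mem_QZ {h x : G} (hh : h • a = a) (hx : x ∈ QZ G a) : h * x * h⁻¹ ∈ QZ G a := by
  rcases (mem_QZ hS).1 hx with rfl | hx
  · simp
  · exact mem_QZ_of_mem_II (conj_mem_II hx hh)

theorem conj_mem_QZ' {h x : G} (hh : h • a = a) (hx : x ∈ QZ G a) : h⁻¹ * x * h ∈ QZ G a := by
  simpa using conj_mem_QZ hS (h := h⁻¹) (by rw [inv_smul_eq_iff, hh]) hx

theorem card_QZ : Nat.card (QZ G a) = Nat.card (II G a) + 1 := by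
  have h1 : (QZ G a : Set G) = insert 1 (II G a) := by
    ext x; simp only [SetLike.mem_coe, mem_QZ hS, Set.mem_insert_iff]
  have h2 : Nat.card (QZ G a) = (QZ G a : Set G).ncard := rfl
  rw [h2, h1, Set.ncard_insert_of_notMem (fun h => h.2.1 rfl)]
  rfl

theorem card_QZ_eq : Nat.card (QZ G a) = Nat.card (KK a t) + 1 := by
  rw [card_QZ hS, card_KK hS]

theorem isPGroup_QZ : IsPGroup 2 (QZ G a) := fun x =>
  ⟨1, Subtype.ext (by rw [pow_one, pow_two]; exact QZ_mul_self hS x.2)⟩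

theorem exists_card_QZ : ∃ n, 1 ≤ n ∧ Nat.card (QZ G a) = 2 ^ n := by
  obtain ⟨n, hn⟩ := IsPGroup.iff_card.1 (isPGroup_QZ hS)
  refine ⟨n, ?_, hn⟩
  rcases n with _ | n
  · obtain ⟨s, hs⟩ := exists_mem_II hS
    rw [card_QZ hS] at hn
    have : 0 < Nat.card (II G a) := Nat.card_pos_iff.2 ⟨⟨⟨s, hs⟩⟩, inferInstance⟩
    omega
  · omega

/-- An involution of `G` moving `a` times an involution fixing `a` is not an involution. -/
theorem mul_t_sq_ne_one {s : G} (hs : s ∈ II G a) : (s * t) * (s * t) ≠ 1 := by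
  intro h
  have h1 := eq_one_of_odd_of_mul_self
    (odd_orderOf_mul hS hs.2.1 hs.2.2 hS.mul_self hs.1 (ta_ne hS)) h
  have : t = s := by
    rw [← t_inv hS]; exact (eq_inv_of_mul_eq_one_left h1).symm
  exact ta_ne hS (by rw [this, hs.1])

/-- A strongly real element `u v` with `(u v)² ≠ 1` does not fix three points. -/
theorem strongly_real_not_three {u v : G} (hu : u * u = 1) (hv : v * v = 1)
    (hx : (u * v) * (u * v) ≠ 1) {b c d : Ω} (hbc : b ≠ c) (hbd : b ≠ d) (hcd : c ≠ d)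
    (hb : (u * v) • b = b) (hc : (u * v) • c = c) (hd : (u * v) • d = d) : False := by
  obtain ⟨w, hw⟩ := exists_rebase hS b
  obtain ⟨z, hz, hzc⟩ := exists_invol_mem_cent hw (X := {u * v}) (by simpa using hb)
    ⟨b, c, d, hbc, hbd, hcd, by simpa using ⟨hb, hc, hd⟩⟩
  have : Commute z (u * v) := (Subgroup.mem_centralizer_singleton_iff.1 hzc)
  exact hz.2.1 (strongly_real_no_invol hS hu hv hx this hz.2.2)

theorem conj_st {s r : G} (hs : s ∈ II G a) (hr : r ∈ Q) (e : t * s * t = r⁻¹ * t * r) :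
    r⁻¹ * (s * t) * r = (s * t) ^ 2 := by
  have h := (commute_of_mem_II hS hs (Q.inv_mem hr)).eq
  calc r⁻¹ * (s * t) * r = (r⁻¹ * s) * t * r := by group
    _ = s * (r⁻¹ * t * r) := by rw [← h]; group
    _ = _ := by rw [← e, pow_two]; group

omit hS [Finite G] in
theorem conj_sq_of_conj {x r : G} (h : r⁻¹ * x * r = x ^ 2) :
    (r * r)⁻¹ * x * (r * r) = x ^ 4 := by
  calc (r * r)⁻¹ * x * (r * r) = r⁻¹ * (r⁻¹ * x * r) * r := by group
    _ = r⁻¹ * x ^ 2 * r := by rw [h]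
    _ = (r⁻¹ * x * r) ^ 2 := by simp only [pow_two]; group
    _ = _ := by rw [h, ← pow_mul]

/-- The structure equation when `r ^ 4 = 1`. -/
theorem struct_dichotomy {s r : G} (hs : s ∈ II G a) (hr : r ∈ Q)
    (e : t * s * t = r⁻¹ * t * r) (h4 : (r * r) * (r * r) = 1) :
    r = s ∨ (r * r = s ∧ (s * t) ^ 5 = 1) := by
  have h1 := conj_st hS hs hr e
  have h2 := conj_sq_of_conj h1
  have hss := hs.2.2
  have htt := hS.mul_self
  by_cases hrr : r * r = 1
  · left
    rw [hrr, inv_one, one_mul, mul_one] at h2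
    have h3 : (s * t) ^ 3 = 1 := by
      have : (s * t) ^ 3 * (s * t) = 1 * (s * t) := by rw [← pow_succ, ← h2, one_mul]
      exact mul_right_cancel this
    have e' : t * s * t = s⁻¹ * t * s := by
      have : t * s * t = s⁻¹ * (s * t) ^ 3 * t⁻¹ * s⁻¹ := by simp only [pow_succ, pow_zero]; group
      rw [this, h3, t_inv hS, inv_eq_of_mul_self hss, mul_one]
    exact (structure_eq_unique hS hs hr hs (mem_Q_of_mem_II hS hs) e e').2
  · right
    set z := r * r with hz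
    have hzI : z ∈ II G a := ⟨smul_of_mem_Q hS (Q.mul_mem hr hr), hrr, h4⟩
    have hzi : z⁻¹ = z := inv_eq_of_mul_self h4
    have h16 : (s * t) ^ 16 = s * t := by
      have := conj_sq_of_conj (r := r * r) (x := s * t)
      calc (s * t) ^ 16 = ((s * t) ^ 4) ^ 4 := by rw [← pow_mul]
        _ = (z⁻¹ * (s * t) * z) ^ 4 := by rw [h2]
        _ = z⁻¹ * (s * t) ^ 4 * z := by simp only [pow_succ, pow_zero]; group
        _ = (z * z)⁻¹ * (s * t) * (z * z) := by rw [← h2]; group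
        _ = _ := by rw [h4]; group
    have h15 : (s * t) ^ 15 = 1 := by
      have : (s * t) ^ 15 * (s * t) = 1 * (s * t) := by rw [← pow_succ, h16, one_mul]
      exact mul_right_cancel this
    have hodd := odd_orderOf_mul hS hs.2.1 hss htt hs.1 (ta_ne hS)
    have h5 : (s * t) ^ 5 = 1 := by
      by_contra h5
      have hv : (s * (s * t) ^ 5) * (s * (s * t) ^ 5) = 1 := by
        have := invol_conj_pow hss htt 5
        calc _ = (s * (s * t) ^ 5 * s) * (s * t) ^ 5 := by group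
          _ = 1 := by rw [this, inv_mul_cancel]
      have hx : s * (s * (s * t) ^ 5) = (s * t) ^ 5 := by rw [← mul_assoc, hss, one_mul]
      refine hrr (strongly_real_no_invol hS hss hv ?_ ?_ h4)
      · rw [hx]
        intro h
        exact h5 (eq_one_of_odd_of_mul_self (Odd.of_dvd_nat hodd (orderOf_pow_dvd 5)) h)
      · rw [hx]
        have : z⁻¹ * (s * t) ^ 5 * z = (s * t) ^ 5 := by
          calc z⁻¹ * (s * t) ^ 5 * z = (z⁻¹ * (s * t) * z) ^ 5 := by
                simp only [pow_succ, pow_zero]; group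
            _ = (s * t) ^ 15 * (s * t) ^ 5 := by rw [h2, ← pow_mul, ← pow_add]
            _ = _ := by rw [h15, one_mul]
        show z * (s * t) ^ 5 = (s * t) ^ 5 * z
        conv_lhs => rw [← this]
        group
    refine ⟨?_, h5⟩
    have h4' : (s * t) ^ 4 = (s * t)⁻¹ := by
      rw [eq_inv_iff_mul_eq_one, ← pow_succ, h5]
    have hsz : (s * z) * (s * z) = 1 := QZ_mul_self hS
      (Subgroup.mul_mem _ (mem_QZ_of_mem_II hs) (mem_QZ_of_mem_II hzI))
    have : s * z = 1 := by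
      refine strongly_real_no_invol hS hss htt (mul_t_sq_ne_one hS hs) ?_ hsz
      show s * z * (s * t) = s * t * (s * z)
      have h6 : z * (s * t) * z = (s * t)⁻¹ := by rw [← h4', ← h2, hzi]
      have h7 : z * (s * t) = (s * t)⁻¹ * z := by rw [← h6, mul_assoc _ z z, h4, mul_one]
      rw [mul_assoc, h7, mul_inv_rev, t_inv hS, inv_eq_of_mul_self hss]; group
    rw [← hzi]; exact (eq_inv_of_mul_eq_one_left this).symm

/-- The basic relation when `r² = s`: `f (r s^k) = (f (r s s^k) r)^(k⁻¹)`. -/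
theorem can_r_mul {s r k g h f : G} (hs : s ∈ II G a) (hr : r ∈ Q)
    (e : t * s * t = r⁻¹ * t * r) (h2 : r * r = s) (hk : k ∈ KK a t)
    (c : Can a t Q (r * s * (k⁻¹ * s * k)) g h f) :
    Can a t Q (r * (k⁻¹ * s * k)) (r * (k⁻¹ * g * k)) (k⁻¹ * h * k) (k * (f * r) * k⁻¹) := by
  have hsQ := mem_Q_of_mem_II hS hs
  have c1 := can_r hS hsQ hr e
  have c2 := (can_s (a := a) hr e).conjK hS hk
  have c3 := c.conjK' hS hk
  have hri : r⁻¹ = r * s := by
    rw [← h2, inv_eq_iff_mul_eq_one, ← mul_assoc, ← mul_assoc, h2, mul_assoc, h2, hs.2.2]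
  have e3 : k * (r * s * (k⁻¹ * s * k)) * k⁻¹ = s * (k * r⁻¹ * k⁻¹) := by
    have := (commute_of_mem_II hS hs (conj_mem_Q hS hk.1.1 (Q.inv_mem hr))).eq
    rw [this, hri]; group
  rw [e3] at c3
  have c4 := c1.mul hS c2 c3
  have hkt := t_conj_of_mem_KK hS hk
  have e4 : t * (k * 1 * k) * t = k⁻¹ * k⁻¹ := by
    rw [← hkt]; simp only [mul_assoc, tt hS, mul_one]
  rw [e4] at c4
  convert c4 using 1 <;> group

/-- If `r² = s` then `K` has no element of order 3. -/
theorem K_cube_ne_one {s r k : G} (hs : s ∈ II G a) (hr : r ∈ Q)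
    (e : t * s * t = r⁻¹ * t * r) (h2 : r * r = s) (hk : k ∈ KK a t) (hk1 : k ≠ 1) :
    k ^ 3 ≠ 1 := by
  intro hk3
  have hsQ := mem_Q_of_mem_II hS hs
  have hsZ := mem_QZ_of_mem_II hs
  have hki := inv_mem_invertedBy hk
  have hkk : k⁻¹ = k * k := by
    rw [inv_eq_iff_mul_eq_one, ← mul_assoc, ← hk3]; simp only [pow_succ, pow_zero, one_mul]
  have hs1 := conj_mem_QZ' hS hk.1.1 hsZ
  have hs2 := conj_mem_QZ hS hk.1.1 hsZ
  -- `s s^k s^(k²) = 1`
  have h3 : s * (k⁻¹ * s * k) * (k * s * k⁻¹) = 1 := by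
    refine eq_one_of_commute_K hS hk hk1
      (QZ_le hS (Subgroup.mul_mem _ (Subgroup.mul_mem _ hsZ hs1) hs2)) ?_
    show k * _ = _ * k
    have e1 : k * (s * (k⁻¹ * s * k) * (k * s * k⁻¹)) =
        (k * s * k⁻¹) * s * (k * k * s * (k * k)⁻¹) * k := by group
    rw [e1, ← hkk, inv_inv, mul_assoc (k * s * k⁻¹),
      QZ_comm hS hs2 (QZ_le hS (Subgroup.mul_mem _ hsZ hs1))]
  have h4 : s * (k⁻¹ * s * k) = k⁻¹⁻¹ * s * k⁻¹ := by
    rw [inv_inv, ← inv_eq_of_mul_self (QZ_mul_self hS hs2)]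
    exact eq_inv_of_mul_eq_one_left h3
  have h5 : s * (k⁻¹⁻¹ * s * k⁻¹) = k⁻¹ * s * k := by
    rw [← h4, ← mul_assoc, hs.2.2, one_mul]
  have hne : ∀ z ∈ QZ G a, r * z ≠ 1 := by
    intro z hz h
    have : r = z := by rw [← inv_eq_of_mul_self (QZ_mul_self hS hz)]; exact eq_inv_of_mul_eq_one_left h
    rw [this, QZ_mul_self hS hz] at h2
    exact hs.2.1 h2.symm
  obtain ⟨g, h, y, c⟩ := exists_can hS (Q.mul_mem hr (QZ_le hS hs1)) (hne _ hs1)
  have c1 := can_r_mul hS hs hr e h2 hki (by rw [mul_assoc, h5]; exact c)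
  have c2 := can_r_mul hS hs hr e h2 hk (by rw [mul_assoc, h4]; exact c1)
  have h6 := (c.unique hS c2).2.2
  have h7 : k * r * k⁻¹ = r⁻¹ := by
    have : y * (r * (k * r * k⁻¹)) = y * 1 := by
      rw [mul_one]
      exact Eq.trans (by group) h6.symm
    exact eq_inv_of_mul_eq_one_right (mul_left_cancel this)
  have h8 : Commute k⁻¹ r := by
    show k⁻¹ * r = r * k⁻¹
    have h9 : k * (k * r * k⁻¹) * k⁻¹ = r := by
      calc k * (k * r * k⁻¹) * k⁻¹ = (k * (k * r * k⁻¹)⁻¹ * k⁻¹)⁻¹ := by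
            simp only [mul_inv_rev, inv_inv, mul_assoc]
        _ = r := by rw [h7, inv_inv, h7, inv_inv]
    calc k⁻¹ * r = (k * (k * r * k⁻¹) * k⁻¹) * (k * k) := by
          have : k⁻¹ * r = (k * k) * r := by rw [hkk]
          rw [this]; simp only [mul_assoc, inv_mul_cancel_left, inv_mul_cancel, mul_one]
      _ = _ := by rw [h9, hkk]
  have := eq_one_of_commute_K hS hki (by simpa using hk1) hr h8
  exact hne 1 (Subgroup.one_mem _) (by rw [this, mul_one])

/-- If `t s t = s t s`, `Q₀ K ∪ Q₀ K t Q₀` is a subgroup. -/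
theorem bruData_QZ (hK : ∀ k ∈ KK a t, ∀ l ∈ KK a t, k * l ∈ KK a t) {s : G} (hs : s ∈ II G a)
    (e : t * s * t = s⁻¹ * t * s) : BruData a t Q (QZ G a) (KS a t) where
  S_le := QZ_le hS
  H_le := KS_le_DD
  conj_mem := fun _ hk _ hx => conj_mem_QZ hS (KS_le_DD hk).1 hx
  t_conj := fun k hk => by
    rw [t_conj_of_mem_KK hS ((mem_KS hK).1 hk)]; exact Subgroup.inv_mem _ hk
  can := fun x hx hx1 => by
    obtain ⟨k, hk, rfl⟩ := exists_K_conj_eq hS hs (mem_II_of_mem_QZ hS hx hx1)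
    have c := (can_s (a := a) (mem_Q_of_mem_II hS hs) e).conjK hS hk
    have hsZ := mem_QZ_of_mem_II hs
    have hk' := mem_KS_of_mem_KK hk
    exact ⟨_, conj_mem_QZ hS hk.1.1 (Subgroup.inv_mem _ hsZ), _,
      Subgroup.mul_mem _ (Subgroup.mul_mem _ hk' (Subgroup.one_mem _)) hk', _,
      conj_mem_QZ hS hk.1.1 hsZ, c.eq⟩

end setup

end CL.ROR
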