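import Cfsg.Agent.Base
import Cfsg.Agent.RankOneRec.Struct
import Cfsg.Agent.Small.PSL2Rec4

/-!
The field attached to `Q₀ K`, a lifting principle for recognising subgroups through an action, and
the recognition of `L₀ = Q₀ K ∪ Q₀ K t Q₀` as `PSL(2, q)` when `t s t = s t s`.
-/

set_option autoImplicit false

namespace CL.ROR

open Cfsg MulAction CL.RankOne OnePoint
open scoped MatrixGroups

/-- A subgroup `L` of `G` preserving an injected copy of a faithful `M`-set `X`, inducing on it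
exactly the permutations induced by `M` and acting faithfully on it, is isomorphic to `M`. -/
theorem equiv_of_lift {G Ω M X : Type*} [Group G] [MulAction G Ω] [Group M] [MulAction M X]
    [FaithfulSMul M X] (ι : X → Ω) (hι : Function.Injective ι) (L : Subgroup G)
    (h1 : ∀ l ∈ L, ∃ m : M, ∀ x, l • ι x = ι (m • x))
    (h2 : ∀ m : M, ∃ l ∈ L, ∀ x, l • ι x = ι (m • x))
    (h3 : ∀ l ∈ L, (∀ x, l • ι x = ι x) → l = 1) :
    ∃ e : L ≃* M, ∀ (l : L) (x : X), (l : G) • ι x = ι (e l • x) := by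
  choose φ hφ using fun l : L => h1 l l.2
  have huniq : ∀ (l : L) (m : M), (∀ x, (l : G) • ι x = ι (m • x)) → φ l = m := by
    intro l m h
    exact FaithfulSMul.eq_of_smul_eq_smul (α := X) fun x => hι ((hφ l x).symm.trans (h x))
  let ψ : L →* M := MonoidHom.mk' φ fun l l' => huniq _ _ fun x => by
    rw [Subgroup.coe_mul, mul_smul, hφ, hφ, mul_smul]
  have hb : Function.Bijective ψ := by
    constructor
    · rw [injective_iff_map_eq_one]
      intro l hl
      refine Subtype.ext (h3 l l.2 fun x => ?_)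
      have : φ l = 1 := hl
      rw [hφ, this, one_smul]
    · intro m
      obtain ⟨l, hl, h⟩ := h2 m
      exact ⟨⟨l, hl⟩, huniq _ _ h⟩
  exact ⟨MulEquiv.ofBijective ψ hb, hφ⟩

/-- The elements of `G` inducing on `ι X` a permutation induced by `M`. -/
def liftSub (G : Type*) {Ω : Type*} (M : Type*) {X : Type*} [Group G] [MulAction G Ω] [Group M]
    [MulAction M X] (ι : X → Ω) : Subgroup G where
  carrier := {l | ∃ m : M, ∀ x, l • ι x = ι (m • x)}
  one_mem' := ⟨1, fun x => by rw [one_smul, one_smul]⟩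
  mul_mem' := by
    rintro l l' ⟨m, h⟩ ⟨m', h'⟩
    exact ⟨m * m', fun x => by rw [mul_smul, h', h, mul_smul]⟩
  inv_mem' := by
    rintro l ⟨m, h⟩
    exact ⟨m⁻¹, fun x => by rw [inv_smul_eq_iff, h, smul_inv_smul]⟩

/-- The elements of `M` whose action on `X` is induced by an element of `L`. -/
def liftedSub {G Ω : Type*} (M : Type*) {X : Type*} [Group G] [MulAction G Ω] [Group M]
    [MulAction M X] (ι : X → Ω) (L : Subgroup G) : Subgroup M where
  carrier := {m | ∃ l ∈ L, ∀ x, l • ι x = ι (m • x)}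
  one_mem' := ⟨1, L.one_mem, fun x => by rw [one_smul, one_smul]⟩
  mul_mem' := by
    rintro m m' ⟨l, hl, h⟩ ⟨l', hl', h'⟩
    exact ⟨l * l', L.mul_mem hl hl', fun x => by rw [mul_smul, h', h, mul_smul]⟩
  inv_mem' := by
    rintro m ⟨l, hl, h⟩
    exact ⟨l⁻¹, L.inv_mem hl, fun x => by rw [inv_smul_eq_iff, h, smul_inv_smul]⟩

/-- `SL(2, q)` has an element of order `q + 1`. -/
theorem exists_orderOf_SL2 (F : Type*) [Field F] [Fintype F] :
    ∃ g : SL(2, F), orderOf g = Fintype.card F + 1 := by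
  classical
  obtain ⟨p, hp⟩ := CharP.exists F
  have : Fact p.Prime := ⟨CharP.char_is_prime F p⟩
  let E := FiniteField.Extension F p 2
  have hE : Nat.card E = Fintype.card F ^ 2 := by
    rw [FiniteField.natCard_extension, Nat.card_eq_fintype_card]
  have hq : 1 < Fintype.card F := Fintype.one_lt_card
  obtain ⟨g, hg⟩ := IsCyclic.exists_ofOrder_eq_natCard (α := Eˣ)
  rw [Nat.card_units, hE] at hg
  have hfac : Fintype.card F ^ 2 - 1 = (Fintype.card F - 1) * (Fintype.card F + 1) := by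
    obtain ⟨m, hm⟩ : ∃ m, Fintype.card F = m + 1 := ⟨_, (Nat.sub_add_cancel hq.le).symm⟩
    rw [hm, Nat.add_sub_cancel]
    exact (Nat.eq_sub_of_add_eq (by ring)).symm
  set l := g ^ (Fintype.card F - 1) with hl
  have hlo : orderOf l = Fintype.card F + 1 := by
    rw [hl, orderOf_pow_of_dvd (by omega) (by rw [hg, hfac]; exact Dvd.intro _ rfl), hg, hfac,
      Nat.mul_div_cancel_left _ (by omega)]
  let b : Module.Basis (Fin 2) F E := Module.finBasisOfFinrankEq F E
    (FiniteField.finrank_extension F p 2)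
  have hdet : (Algebra.leftMulMatrix b (l : E)).det = 1 := by
    rw [← Algebra.norm_eq_matrix_det]
    apply (algebraMap F E).injective
    rw [FiniteField.algebraMap_norm_eq_pow, hE, Nat.card_eq_fintype_card, hfac,
      Nat.mul_div_cancel_left _ (by omega), ← hlo, ← Units.val_pow_eq_pow_val, pow_orderOf_eq_one,
      map_one, Units.val_one]
  refine ⟨⟨_, hdet⟩, ?_⟩
  rw [← hlo, ← orderOf_units, ← orderOf_injective (Algebra.leftMulMatrix b).toMonoidHom
    (Algebra.leftMulMatrix_injective b)]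
  exact (orderOf_injective (slToMat 2 F) (fun _ _ h => Subtype.ext h) ⟨_, hdet⟩).symm

/-- In characteristic 2, `PSL(2, q)` has an element of order `q + 1`. -/
theorem exists_orderOf_PSL2 (F : Type*) [Field F] [Fintype F] [CharP F 2] :
    ∃ g : PSL(2, F), orderOf g = Fintype.card F + 1 := by
  obtain ⟨g, hg⟩ := exists_orderOf_SL2 F
  refine ⟨QuotientGroup.mk' _ g, ?_⟩
  rw [orderOf_injective _ _ g, hg]
  rw [← MonoidHom.ker_eq_bot_iff, QuotientGroup.ker_mk', eq_bot_iff]
  intro z hz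
  obtain ⟨r, hr, hz⟩ := Matrix.SpecialLinearGroup.mem_center_iff.1 hz
  have : r = 1 := by
    rw [Fintype.card_fin, pow_two, mul_self_eq_one_iff, CharTwo.neg_eq, or_self] at hr
    exact hr
  rw [Subgroup.mem_bot]
  ext1
  rw [← hz, this]; simp

variable {G Ω : Type*} [Group G] [MulAction G Ω] {a : Ω} {t : G} {Q : Subgroup G}

/-- Field coordinates on `Q₀`, with `K` acting by scalars. -/
structure FieldData (a : Ω) (t s : G) (F : Type) [Field F] (U : F → G) : Prop where
  add : ∀ x y, U (x + y) = U x * U y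
  inj : Function.Injective U
  mem : ∀ x, U x ∈ QZ G a
  surj : ∀ z ∈ QZ G a, ∃ x, U x = z
  one : U 1 = s
  conj : ∀ k ∈ KK a t, ∃ c : F, c ≠ 0 ∧ ∀ x, k * U x * k⁻¹ = U (c * x)
  scal : ∀ c : F, c ≠ 0 → ∃ k ∈ KK a t, ∀ x, k * U x * k⁻¹ = U (c * x)

theorem FieldData.zero {s : G} {F : Type} [Field F] {U : F → G} (h : FieldData a t s F U) :
    U 0 = 1 := by
  have := h.add 0 0
  rw [add_zero] at this
  exact (mul_eq_left.1 this.symm)

section setup
variable (hS : IsRankOneSetup G Ω a t Q) [Finite G]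
include hS

omit hS [Finite G] in
theorem FieldData.card {s : G} {F : Type} [Field F] [Fintype F] {U : F → G}
    (h : FieldData a t s F U) : Fintype.card F = Nat.card (QZ G a) := by
  rw [← Nat.card_eq_fintype_card]
  refine Nat.card_eq_of_bijective (fun x => ⟨U x, h.mem x⟩) ⟨fun x y e => h.inj ?_, ?_⟩
  · exact congrArg Subtype.val e
  · rintro ⟨z, hz⟩
    obtain ⟨x, rfl⟩ := h.surj z hz
    exact ⟨x, rfl⟩

theorem exists_fieldData (hK : ∀ k ∈ KK a t, ∀ l ∈ KK a t, k * l ∈ KK a t) {s : G}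
    (hs : s ∈ II G a) :
    ∃ (F : Type) (_ : Field F) (_ : Fintype F) (_ : CharP F 2) (U : F → G),
      FieldData a t s F U := by
  have hsZ := mem_QZ_of_mem_II hs
  obtain ⟨F, _, _, U, -, hadd, hinj, hmem, hsurj, hconj⟩ :=
    CL.PSL2Rec.exists_field_of_irreducible_subgroup (QZ G a)
      (fun h => hs.2.1 (by rw [h] at hsZ; exact hsZ))
      (fun x hx y hy => QZ_comm hS hx (QZ_le hS hy)) (KK a t)
      (fun k hk x hx => conj_mem_QZ hS hk.1.1 hx)
      (fun k hk l hl x _ => by rw [comm_of_K_mul hK hk hl])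
      (fun W hW hWK => by
        by_cases h : W = ⊥
        · exact Or.inl h
        · right
          obtain ⟨⟨w, hw⟩, hw1⟩ := (Subgroup.ne_bot_iff_exists_ne_one).1 h
          have hw1 : w ≠ 1 := fun e => hw1 (Subtype.ext e)
          refine le_antisymm hW fun z hz => ?_
          rcases (mem_QZ hS).1 hz with rfl | hz
          · exact W.one_mem
          · obtain ⟨k, hk, rfl⟩ := exists_K_conj_eq hS (mem_II_of_mem_QZ hS (hW hw) hw1) hz
            simpa using hWK _ (inv_mem_invertedBy hk) w hw)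
  have hU0 : U 0 = 1 := by
    have := hadd 0 0
    rw [add_zero] at this
    exact (mul_eq_left.1 this.symm)
  obtain ⟨x0, hx0⟩ := hsurj s hsZ
  have hx00 : x0 ≠ 0 := by rintro rfl; exact hs.2.1 (by rw [← hx0, hU0])
  have h2 : (2 : F) = 0 := by
    apply hinj
    rw [← one_add_one_eq_two, hadd, hU0, QZ_mul_self hS (hmem 1)]
  have hconj' : ∀ k ∈ KK a t, ∃ c : F, c ≠ 0 ∧ ∀ x, k * U (x * x0) * k⁻¹ = U (c * x * x0) := by
    intro k hk
    obtain ⟨c, hc⟩ := hconj k hk
    refine ⟨c, ?_, fun x => by rw [hc, mul_assoc]⟩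
    rintro rfl
    have := hc x0
    rw [zero_mul, hU0, hx0] at this
    exact conj_ne_one hs.2.1 k this
  refine ⟨F, inferInstance, inferInstance, CharTwo.of_one_ne_zero_of_two_eq_zero one_ne_zero h2,
    fun x => U (x * x0), fun x y => by rw [add_mul, hadd],
    fun x y e => mul_right_cancel₀ hx00 (hinj e), fun x => hmem _, fun z hz => ?_,
    by rw [one_mul, hx0], hconj', fun c hc => ?_⟩
  · obtain ⟨x, rfl⟩ := hsurj z hz
    exact ⟨x / x0, by rw [div_mul_cancel₀ _ hx00]⟩
  · have : U (c * x0) ∈ II G a := mem_II_of_mem_QZ hS (hmem _) (fun e => by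
      rw [← hU0] at e
      exact mul_ne_zero hc hx00 (hinj e))
    obtain ⟨k, hk, e⟩ := exists_K_conj_eq hS hs this
    obtain ⟨c', -, hc'⟩ := hconj' _ (inv_mem_invertedBy hk)
    refine ⟨_, inv_mem_invertedBy hk, fun x => ?_⟩
    have h1 := hc' 1
    rw [one_mul, mul_one, hx0, inv_inv, e] at h1
    rw [hc', mul_right_cancel₀ hx00 (hinj h1)]

/-- If `K` is a subgroup it is cyclic. -/
theorem isCyclic_KS (hK : ∀ k ∈ KK a t, ∀ l ∈ KK a t, k * l ∈ KK a t) : IsCyclic (KS a t) := by
  obtain ⟨s, hs⟩ := exists_mem_II hS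
  obtain ⟨F, _, _, _, U, h⟩ := exists_fieldData hS hK hs
  choose c hc0 hc using fun k : KS a t => h.conj k ((mem_KS hK).1 k.2)
  let φ : KS a t →* F :=
    { toFun := c
      map_one' := by
        have := hc 1 1
        simp only [OneMemClass.coe_one, one_mul, inv_one, mul_one] at this
        exact (h.inj this).symm
      map_mul' := fun k l => by
        have h1 := hc (k * l) 1
        have h2 := hc k (c l * 1)
        rw [← hc l 1] at h2
        have : U (c (k * l) * 1) = U (c k * (c l * 1)) := by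
          rw [← h1, ← h2]; simp [mul_assoc]
        simpa using h.inj this }
  refine isCyclic_of_injective_ringHom φ ?_
  rw [injective_iff_map_eq_one]
  intro k hk
  have h1 := hc k 1
  have : c k = 1 := hk
  rw [this, mul_one, h.one] at h1
  exact Subtype.ext (eq_one_of_mem_KK_of_commute hS hs ((mem_KS hK).1 k.2)
    (mul_inv_eq_iff_eq_mul.1 h1))

/-- `L₀ ≅ PSL(2, q)`, in given field coordinates. -/
theorem L0_equiv_of_fieldData (hK : ∀ k ∈ KK a t, ∀ l ∈ KK a t, k * l ∈ KK a t) {s : G}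
    (hs : s ∈ II G a) (e : t * s * t = s⁻¹ * t * s) {F : Type} [Field F] [Fintype F] [CharP F 2]
    {U : F → G} (h : FieldData a t s F U) :
    Nonempty (bru t (QZ G a) (KS a t) ≃* PSL(2, F)) := by
  classical
  have B := bruData_QZ hS hK hs e
  have hUQ : ∀ x, U x ∈ Q := fun x => QZ_le hS (h.mem x)
  let ι : OnePoint F → Ω := fun P => P.elim a (fun x => U x • t • a)
  have ι1 : ι ∞ = a := rfl
  have ι2 : ∀ x : F, ι x = U x • t • a := fun x => rfl
  have hne : ∀ x, U x • t • a ≠ a := fun x =>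
    smul_ne_of_smul_eq hS (smul_of_mem_Q hS (hUQ x)) (ta_ne hS)
  have hι : Function.Injective ι := by
    intro P R e
    induction P using OnePoint.rec <;> induction R using OnePoint.rec
    · rfl
    · exact absurd e.symm (hne _)
    · exact absurd e (hne _)
    · exact congrArg _ (h.inj (eq_of_mem_Q_of_smul_eq hS (hUQ _) (hUQ _) (ta_ne hS) e))
  -- action of the generators
  have hU : ∀ b : F, ∀ P, U b • ι P = ι (CL.PSL2Rec.mob F (CL.PSL2Rec.affM 1 b one_ne_zero) P) := by
    intro b P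
    induction P using OnePoint.rec with
    | infty => rw [CL.PSL2Rec.mob_affM_infty, ι1, smul_of_mem_Q hS (hUQ b)]
    | coe x =>
      rw [CL.PSL2Rec.mob_affM_coe, ι2, ι2, one_pow, one_mul, add_comm, h.add, mul_smul]
  have hk : ∀ k ∈ KK a t, ∀ c : F, (hc : c ≠ 0) → (∀ x, k * U x * k⁻¹ = U (c ^ 2 * x)) →
      ∀ P, k • ι P = ι (CL.PSL2Rec.mob F (CL.PSL2Rec.affM c 0 hc) P) := by
    intro k hk c hc hkc P
    induction P using OnePoint.rec with
    | infty => rw [CL.PSL2Rec.mob_affM_infty, ι1, hk.1.1]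
    | coe x =>
      rw [CL.PSL2Rec.mob_affM_coe, ι2, ι2, add_zero, ← hkc, mul_smul, mul_smul,
        (Subgroup.inv_mem _ hk.1).2]
  have ht : ∀ P, t • ι P = ι (CL.PSL2Rec.mob F (CL.PSL2Rec.weylM F) P) := by
    intro P
    induction P using OnePoint.rec with
    | infty => rw [CL.PSL2Rec.mob_weylM_infty, ι1, ι2, h.zero, one_smul]
    | coe x =>
      by_cases hx : x = 0
      · rw [hx, CL.PSL2Rec.mob_weylM_zero, ι1, ι2, h.zero, one_smul, tta hS]
      · obtain ⟨k, hk, hkx⟩ := h.scal x hx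
        have c := (can_s (a := a) (mem_Q_of_mem_II hS hs) e).conjK' hS hk
        have h1 : k * s * k⁻¹ = U x := by rw [← h.one, hkx, mul_one]
        have h2 : k⁻¹ * s⁻¹ * k = U x⁻¹ := by
          rw [inv_eq_of_mul_self hs.2.2, ← h.one, ← mul_inv_cancel₀ hx, ← hkx]; group
        rw [h1, h2] at c
        rw [CL.PSL2Rec.mob_weylM_coe x hx, ι2, ι2, c.smul hS, CharTwo.neg_eq]
  have hsq : ∀ c : F, ∃ d, c = d ^ 2 := fun c => by
    obtain ⟨d, hd⟩ := (frobeniusEquiv F 2).surjective c
    exact ⟨d, by rw [← hd]; rfl⟩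
  let M := (CL.PSL2Rec.mob F).range
  obtain ⟨φ, -⟩ := equiv_of_lift (M := M) ι hι (bru t (QZ G a) (KS a t)) (by
      have : bru t (QZ G a) (KS a t) ≤ liftSub G M ι := by
        refine bru_le ?_ ?_ ⟨⟨_, _, rfl⟩, ht⟩
        · intro z hz
          obtain ⟨b, rfl⟩ := h.surj z hz
          exact ⟨⟨_, _, rfl⟩, hU b⟩
        · intro k hk'
          have hk' := (mem_KS hK).1 hk'
          obtain ⟨c, hc, hkc⟩ := h.conj k hk'
          obtain ⟨d, rfl⟩ := hsq c
          exact ⟨⟨_, _, rfl⟩, hk k hk' d (fun e => hc (by rw [e]; simp)) hkc⟩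
      exact fun l hl => this hl)
    (by
      rintro ⟨_, m, rfl⟩
      let N := liftedSub (Equiv.Perm (OnePoint F)) ι (bru t (QZ G a) (KS a t))
      have hup : ∀ c : F, CL.PSL2Rec.mob F (CL.PSL2Rec.affM 1 c one_ne_zero) ∈ N := fun c =>
        ⟨U c, le_bru_S _ _ _ (h.mem c), hU c⟩
      have hw : CL.PSL2Rec.mob F (CL.PSL2Rec.weylM F) ∈ N := ⟨t, t_mem_bru _ _ _, ht⟩
      refine Matrix.SL2.transvection_induction (fun m => CL.PSL2Rec.mob F m ∈ N) ?_ ?_ m
      · intro i j hij c
        fin_cases i <;> fin_cases j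
        · exact absurd rfl hij
        · convert hup c using 2
          ext i j
          fin_cases i <;> fin_cases j <;>
            simp [CL.PSL2Rec.affM, Matrix.SpecialLinearGroup.transvection_coe]
        · have : (Matrix.SpecialLinearGroup.transvection hij c : SL(2, F)) =
              CL.PSL2Rec.weylM F * CL.PSL2Rec.affM 1 (-c) one_ne_zero * (CL.PSL2Rec.weylM F)⁻¹ := by
            rw [eq_mul_inv_iff_mul_eq]
            ext i j
            rw [Matrix.SpecialLinearGroup.coe_mul, Matrix.SpecialLinearGroup.coe_mul,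
              Matrix.SpecialLinearGroup.transvection_coe]
            fin_cases i <;> fin_cases j <;>
              simp [CL.PSL2Rec.affM, CL.PSL2Rec.weylM, Matrix.mul_apply, Fin.sum_univ_two]
          simp only [this, map_mul, map_inv]
          exact mul_mem (mul_mem hw (hup _)) (inv_mem hw)
        · exact absurd rfl hij
      · intro A B hA hB
        rw [map_mul]
        exact mul_mem hA hB)
    (by
      intro l hl hfix
      have h0 := hfix (0 : F)
      rw [ι2, h.zero, one_smul] at h0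
      have hlK := (mem_KS hK).1 (B.mem_H hS hl ⟨hfix ∞, h0⟩)
      by_contra hl1
      rcases fixed_of_mem_KK hS hlK hl1 (hfix (1 : F)) with h1 | h1
      · exact hne 1 h1
      · rw [ι2] at h1
        exact hs.2.1 (h.one ▸ eq_one_of_mem_Q_of_smul_ta hS (hUQ 1) h1))
  have e2 : SL(2, F) ⧸ (CL.PSL2Rec.mob F).ker ≃* M := QuotientGroup.quotientKerEquivRange _
  have e3 : PSL(2, F) ≃* SL(2, F) ⧸ (CL.PSL2Rec.mob F).ker :=
    QuotientGroup.quotientMulEquivOfEq CL.PSL2Rec.mob_ker.symm
  exact ⟨φ.trans (e3.trans e2).symm⟩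

/-- **`L₀ ≅ PSL(2, q)`** when `t s t = s t s` and `K` is a subgroup. -/
theorem L0_equiv (hK : ∀ k ∈ KK a t, ∀ l ∈ KK a t, k * l ∈ KK a t) {s : G}
    (hs : s ∈ II G a) (e : t * s * t = s⁻¹ * t * s) :
    ∃ (F : Type) (_ : Field F) (_ : Fintype F) (_ : CharP F 2),
      Fintype.card F = Nat.card (QZ G a) ∧ Nonempty (bru t (QZ G a) (KS a t) ≃* PSL(2, F)) := by
  obtain ⟨F, _, _, _, U, h⟩ := exists_fieldData hS hK hs
  exact ⟨F, _, _, ‹_›, h.card, L0_equiv_of_fieldData hS hK hs e h⟩

/-- `L₀` has an element of order `q + 1`. -/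
theorem exists_orderOf_L0 (hK : ∀ k ∈ KK a t, ∀ l ∈ KK a t, k * l ∈ KK a t) {s : G}
    (hs : s ∈ II G a) (e : t * s * t = s⁻¹ * t * s) :
    ∃ w ∈ bru t (QZ G a) (KS a t), orderOf w = Nat.card (QZ G a) + 1 := by
  obtain ⟨F, _, _, _, hF, ⟨φ⟩⟩ := L0_equiv hS hK hs e
  obtain ⟨g, hg⟩ := exists_orderOf_PSL2 F
  refine ⟨φ.symm g, (φ.symm g).2, ?_⟩
  rw [Subgroup.orderOf_coe, MulEquiv.orderOf_eq, hg, hF]

end setup

end CL.ROR
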