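import Cfsg.Agent.Base
import Cfsg.Agent.RankOneRec.L0
import Cfsg.Agent.Solv.UniqueSubgroupP

/-!
The Zassenhaus case `D = K` with `Q` a 2-group: centralisers of strongly real elements are abelian
TI subgroups; if `t s t = s t s` and `Q` has exponent 4 then `|Q| ≠ q³`.
-/

set_option autoImplicit false

namespace CL.ROR

open Cfsg MulAction CL.RankOne

theorem card_dvd_ncard_of_free {H X : Type*} [Group H] [MulAction H X] (T : Set X)
    (hT : ∀ h : H, ∀ x ∈ T, h • x ∈ T) (hfree : ∀ h : H, ∀ x ∈ T, h • x = x → h = 1) :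
    Nat.card H ∣ T.ncard := by
  let T' : SubMulAction H X := { carrier := T, smul_mem' := fun h x hx => hT h x hx }
  have hf : ∀ c : T', stabilizer H c = ⊥ := by
    intro c
    rw [eq_bot_iff]
    intro g hg
    exact hfree g c c.2 (congrArg Subtype.val hg)
  have e := selfEquivOrbitsQuotientProd (G := H) (X := T') hf
  have : T.ncard = Nat.card T' := rfl
  rw [this, Nat.card_congr e, Nat.card_prod]
  exact dvd_mul_left _ _

theorem card_dvd_ncard_of_conj_free {G : Type*} [Group G] (A : Subgroup G) (T : Set G)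
    (hT : ∀ h ∈ A, ∀ x ∈ T, h * x * h⁻¹ ∈ T) (hfree : ∀ h ∈ A, ∀ x ∈ T, h * x * h⁻¹ = x → h = 1) :
    Nat.card A ∣ T.ncard := by
  let _ : MulAction A G := MulAction.compHom G (MulAut.conj.comp A.subtype)
  exact card_dvd_ncard_of_free T (fun h x hx => hT h h.2 x hx)
    (fun h x hx e => Subtype.ext (hfree h h.2 x hx e))

theorem ncard_conj_mul_card {G : Type*} [Group G] (w : G) :
    {x : G | ∃ g, g * w * g⁻¹ = x}.ncard * Nat.card (Subgroup.centralizer {w}) = Nat.card G := by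
  have h1 : {x : G | ∃ g, g * w * g⁻¹ = x} = orbit (ConjAct G) w := by
    ext x
    constructor
    · rintro ⟨g, rfl⟩; exact ⟨ConjAct.toConjAct g, rfl⟩
    · rintro ⟨g, rfl⟩; exact ⟨ConjAct.ofConjAct g, rfl⟩
  have h2 : Nat.card (Subgroup.centralizer {w}) = Nat.card (stabilizer (ConjAct G) w) :=
    Subgroup.nat_card_centralizer_nat_card_stabilizer w
  rw [h1, h2, ← index_stabilizer, Subgroup.index_mul_card]
  rfl

/-- A 2-group of exponent dividing 4 with at most one involution has order dividing 8. -/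
theorem card_dvd_eight {E : Type*} [Group E] [Finite E] (h2 : IsPGroup 2 E)
    (h4 : ∀ x : E, x ^ 4 = 1) (hu : ∀ x y : E, x ^ 2 = 1 → y ^ 2 = 1 → x ≠ 1 → y = 1 ∨ y = x) :
    Nat.card E ∣ 8 := by
  rcases CL.UniqP.isCyclic_or_quaternion h2 (fun x y hx hy hx1 => by
    rcases hu x y hx hy hx1 with rfl | rfl
    · exact Subgroup.one_mem _
    · exact Subgroup.mem_zpowers _) with h | ⟨-, n, hn, ⟨e⟩⟩
  · rw [← h.exponent_eq_card]
    exact (Monoid.exponent_dvd_of_forall_pow_eq_one h4).trans (by norm_num)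
  · have h1 := orderOf_dvd_of_pow_eq_one (h4 (e.symm (QuaternionGroup.a 1)))
    rw [MulEquiv.orderOf_eq, QuaternionGroup.orderOf_a_one] at h1
    have h3 := Nat.le_of_dvd (by norm_num) h1
    have : n = 1 := by
      by_contra hn1
      have := Nat.pow_le_pow_right (show 0 < 2 by norm_num) (show 2 ≤ n by omega)
      omega
    subst this
    rw [Nat.card_congr e.toEquiv, Nat.card_eq_fintype_card, QuaternionGroup.card]
    norm_num

theorem cube_arith {q m e c d N : ℕ} (hq : ∃ n, 2 ≤ n ∧ q = 2 ^ n) (hm : m = c * (q + 1))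
    (hmo : Odd m) (hd : q ^ 3 + 1 = m * d) (he : e ∣ 8) (he2 : 2 ∣ e)
    (hb : m ≤ e * (q - 1) + 1) (hN : q ^ 3 * (q - 1) * d = e + m * N) : False := by
  obtain ⟨n, hn, rfl⟩ := hq
  have hq4 : 4 ≤ 2 ^ n := Nat.pow_le_pow_right (show 0 < 2 by norm_num) hn
  have hq' : 2 ^ n = 4 ∨ 2 ^ n = 8 ∨ 2 ^ n = 16 ∨ 2 ^ n = 32 ∨ 64 ≤ 2 ^ n := by
    by_cases h : 6 ≤ n
    · exact Or.inr (Or.inr (Or.inr (Or.inr (Nat.pow_le_pow_right (show 0 < 2 by norm_num) h))))
    · interval_cases n <;> simp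
  generalize 2 ^ n = q at *
  obtain ⟨p, rfl⟩ : ∃ p, q = p + 1 := ⟨q - 1, by omega⟩
  rw [Nat.add_sub_cancel] at hb hN
  have hcd : c * d = p ^ 2 + p + 1 := by
    have : (p + 2) * (c * d) = (p + 2) * (p ^ 2 + p + 1) := by
      rw [hm] at hd; linarith
    exact Nat.eq_of_mul_eq_mul_left (by omega) this
  have he8 := Nat.le_of_dvd (by norm_num) he
  have hc7 : c ≤ 7 := by
    by_contra h
    have : 8 * (p + 1 + 1) ≤ c * (p + 1 + 1) := Nat.mul_le_mul_right _ (by omega)
    have : e * p ≤ 8 * p := Nat.mul_le_mul_right _ he8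
    omega
  have hco : Odd c := by rw [hm] at hmo; exact (Nat.odd_mul.1 hmo).1
  have key : ((p : ℤ) + 2) ∣ c * e - 6 := by
    have h1 : ((p : ℤ) + 1) ^ 3 * p * d = e + c * (p + 1 + 1) * N := by
      rw [hm] at hN; exact_mod_cast hN
    have h2 : (c : ℤ) * d = p ^ 2 + p + 1 := by exact_mod_cast hcd
    refine ⟨p ^ 5 + 2 * p ^ 4 + 3 * p ^ 3 + p ^ 2 + 2 * p - 3 - c ^ 2 * N, ?_⟩
    linear_combination (-(c : ℤ)) * h1 + (p + 1) ^ 3 * p * h2
  have he' : e = 2 ∨ e = 4 ∨ e = 8 := by interval_cases e <;> omega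
  have hc' : c = 1 ∨ c = 3 ∨ c = 5 ∨ c = 7 := by
    obtain ⟨k, hk⟩ := hco; omega
  by_cases h6 : c * e = 6
  · have : c = 3 ∧ e = 2 := by rcases he' with rfl | rfl | rfl <;> omega
    obtain ⟨rfl, rfl⟩ := this
    omega
  have hne : (c : ℤ) * e - 6 ≠ 0 := fun h => h6 (by exact_mod_cast sub_eq_zero.1 h)
  have hle := Int.natAbs_le_of_dvd_ne_zero key hne
  subst hm
  rcases hq' with h | h | h | h | h
  · obtain rfl : p = 3 := by omega
    rcases he' with rfl | rfl | rfl <;> rcases hc' with rfl | rfl | rfl | rfl <;> omega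
  · obtain rfl : p = 7 := by omega
    rcases he' with rfl | rfl | rfl <;> rcases hc' with rfl | rfl | rfl | rfl <;> omega
  · obtain rfl : p = 15 := by omega
    rcases he' with rfl | rfl | rfl <;> rcases hc' with rfl | rfl | rfl | rfl <;> omega
  · obtain rfl : p = 31 := by omega
    rcases he' with rfl | rfl | rfl <;> rcases hc' with rfl | rfl | rfl | rfl <;> omega
  · rcases he' with rfl | rfl | rfl <;> rcases hc' with rfl | rfl | rfl | rfl <;> omega

variable {G Ω : Type*} [Group G] [MulAction G Ω] {a : Ω} {t : G} {Q : Subgroup G}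

section setup
variable (hS : IsRankOneSetup G Ω a t Q) [Finite G] (hD : ∀ d ∈ DD a t, d ∈ KK a t)
include hS hD

theorem mem_Q_of_commute_II {u c : G} (hu : u ∈ II G a) (hc : Commute c u) : c ∈ Q := by
  obtain ⟨q, hq, d, hd, rfl⟩ := decomp hS (smul_eq_of_commute_invol hS hu.2.1 hu.2.2 hc hu.1)
  have h1 : Commute d u := by
    have := ((commute_of_mem_II hS hu (Q.inv_mem hq)).symm).mul_left hc
    rwa [inv_mul_cancel_left] at this
  rw [eq_one_of_mem_KK_of_commute hS hu (hD d hd) h1, mul_one]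
  exact hq

variable (h2 : IsPGroup 2 Q)
include h2

omit hS hD [Finite G] in
theorem eq_one_of_mem_Q_of_odd {c : G} (hc : c ∈ Q) (ho : Odd (orderOf c)) : c = 1 := by
  obtain ⟨k, hk⟩ := h2 ⟨c, hc⟩
  have h1 : orderOf c ∣ 2 ^ k := orderOf_dvd_of_pow_eq_one (congrArg Subtype.val hk)
  have : (orderOf c).Coprime (2 ^ k) := (Nat.coprime_two_right.2 ho).pow_right k
  exact orderOf_eq_one_iff.1 (Nat.Coprime.eq_one_of_dvd this h1)

omit hD h2 in
theorem odd_cent_of_inverted {u w : G} (hu : u * u = 1) (huw : u * w * u = w⁻¹)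
    (hw : w * w ≠ 1) : Odd (Nat.card (Subgroup.centralizer {w})) := by
  have e : u * (u * w) = w := by rw [← mul_assoc, hu, one_mul]
  have := strongly_real_odd hS hu (v := u * w)
    (by rw [← mul_assoc, huw, inv_mul_cancel]) (by rwa [e])
  rwa [e] at this

/-- An involution of `Q` inverting `w` inverts `C(w)`. -/
theorem inverts_cent {u w : G} (hu : u ∈ II G a) (huw : u * w * u = w⁻¹) (hw : w * w ≠ 1) :
    ∀ c ∈ Subgroup.centralizer {w}, u * c * u = c⁻¹ := by
  have hodd := odd_cent_of_inverted hS hu.2.2 huw hw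
  have hui := inv_eq_of_mul_self hu.2.2
  intro c hc
  obtain ⟨y, z, hy, hyu, hz, rfl⟩ := exists_cent_mul_inverted hu.2.2 hodd (fun x hx => by
    rw [Subgroup.mem_centralizer_singleton_iff] at hx ⊢
    have h1 : u * w = w⁻¹ * u := by rw [← huw, mul_assoc _ u, hu.2.2, mul_one]
    have h3 : u * w⁻¹ = w * u := by
      have := congrArg Inv.inv h1
      simp only [mul_inv_rev, inv_inv, hui] at this
      have h4 : w * u * w = u := by rw [mul_assoc, h1, mul_inv_cancel_left]
      rw [← h4]; nth_rewrite 2 [h4]; group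
    have hx' : x * w⁻¹ = w⁻¹ * x := (Commute.inv_right hx).eq
    calc u * x * u⁻¹ * w = u * (x * w⁻¹) * u := by rw [hui, mul_assoc, h1]; group
      _ = _ := by rw [hx', ← mul_assoc, h3, hui]; group) hc
  rw [eq_one_of_mem_Q_of_odd h2 (mem_Q_of_commute_II hS hD hu hyu) (odd_orderOf_of_mem hodd hy),
    one_mul, ← hz.2, hui]

theorem cent_comm {u w : G} (hu : u ∈ II G a) (huw : u * w * u = w⁻¹) (hw : w * w ≠ 1)
    {x y : G} (hx : x ∈ Subgroup.centralizer {w}) (hy : y ∈ Subgroup.centralizer {w}) :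
    x * y = y * x := by
  have h := inverts_cent hS hD h2 hu huw hw
  have h1 := h _ (Subgroup.mul_mem _ hx hy)
  have h3 : u * (x * y) * u = (u * x * u) * (u * y * u) := by
    calc _ = u * x * (u * u) * y * u := by rw [hu.2.2]; group
      _ = _ := by group
  rw [h3, h x hx, h y hy, ← mul_inv_rev, inv_inj] at h1
  exact h1.symm

omit hD h2 in
theorem sq_ne_one_of_mem_cent {u w : G} (hu : u ∈ II G a) (huw : u * w * u = w⁻¹)
    (hw : w * w ≠ 1) {c : G} (hc : c ∈ Subgroup.centralizer {w}) (hc1 : c ≠ 1) : c * c ≠ 1 :=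
  fun h => hc1 (eq_one_of_odd_of_mul_self
    (odd_orderOf_of_mem (odd_cent_of_inverted hS hu.2.2 huw hw) hc) h)

theorem cent_eq {u w : G} (hu : u ∈ II G a) (huw : u * w * u = w⁻¹) (hw : w * w ≠ 1)
    {c : G} (hc : c ∈ Subgroup.centralizer {w}) (hc1 : c ≠ 1) :
    Subgroup.centralizer {c} = Subgroup.centralizer {w} := by
  ext x
  simp only [Subgroup.mem_centralizer_singleton_iff]
  constructor
  · intro hx
    exact cent_comm hS hD h2 hu (inverts_cent hS hD h2 hu huw hw c hc)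
      (sq_ne_one_of_mem_cent hS hu huw hw hc hc1) (Subgroup.mem_centralizer_singleton_iff.2 hx)
      (Subgroup.mem_centralizer_singleton_iff.2
        (Subgroup.mem_centralizer_singleton_iff.1 hc).symm)
  · intro hx
    exact cent_comm hS hD h2 hu huw hw (Subgroup.mem_centralizer_singleton_iff.2 hx) hc

/-- Fusion in `A = C(w)` is controlled by `E = Q ⊓ N(A)`. -/
theorem exists_E_conj {u w : G} (hu : u ∈ II G a) (huw : u * w * u = w⁻¹) (hw : w * w ≠ 1)
    {c g : G} (hc : c ∈ Subgroup.centralizer {w}) (hc1 : c ≠ 1)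
    (hg : g * c * g⁻¹ ∈ Subgroup.centralizer {w}) :
    ∃ n ∈ Q ⊓ Subgroup.normalizer (Subgroup.centralizer {w} : Set G), n * c * n⁻¹ = g * c * g⁻¹ := by
  set A := Subgroup.centralizer ({w} : Set G) with hA
  have hodd := odd_cent_of_inverted hS hu.2.2 huw hw
  have hinv := inverts_cent hS hD h2 hu huw hw
  have hui := inv_eq_of_mul_self hu.2.2
  have e1 := cent_eq hS hD h2 hu huw hw hc hc1
  have e2 := cent_eq hS hD h2 hu huw hw hg (conj_ne_one hc1 g)
  have hgN : g ∈ Subgroup.normalizer (A : Set G) := by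
    rw [Subgroup.mem_normalizer_iff]
    intro x
    rw [hA]
    nth_rewrite 1 [← e1]
    rw [← e2, Subgroup.mem_centralizer_singleton_iff, Subgroup.mem_centralizer_singleton_iff]
    constructor
    · intro h
      calc g * x * g⁻¹ * (g * c * g⁻¹) = g * (x * c) * g⁻¹ := by group
        _ = _ := by rw [h]; group
    · intro h
      calc x * c = g⁻¹ * (g * x * g⁻¹ * (g * c * g⁻¹)) * g := by group
        _ = _ := by rw [h]; group
  have hwA : w ∈ A := Subgroup.mem_centralizer_singleton_iff.2 rfl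
  have hz : g * u * g⁻¹ * u ∈ A := by
    have h1 : g⁻¹ * w⁻¹ * g ∈ A := by
      simpa using (Subgroup.mem_normalizer_iff.1 (Subgroup.inv_mem _ hgN) _).1 (A.inv_mem hwA)
    have h3 := hinv _ h1
    rw [hA, Subgroup.mem_centralizer_singleton_iff]
    calc g * u * g⁻¹ * u * w = g * u * g⁻¹ * (u * w * u) * u := by
          rw [show g * u * g⁻¹ * (u * w * u) * u = g * u * g⁻¹ * u * w * (u * u) by group,
            hu.2.2, mul_one]
      _ = g * (u * (g⁻¹ * w⁻¹ * g) * u) * u⁻¹ * g⁻¹ * u := by rw [huw]; group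
      _ = _ := by rw [h3, hui]; group
  obtain ⟨m, hm⟩ := exists_pow_mul_self_eq (odd_orderOf_of_mem hodd hz)
  set d := (g * u * g⁻¹ * u) ^ m with hd
  have hdA : d ∈ A := A.pow_mem hz m
  have h4 : d * u * d⁻¹ = g * u * g⁻¹ := by
    calc d * u * d⁻¹ = d * (u * d⁻¹ * u) * u⁻¹ := by group
      _ = _ := by rw [hinv _ (A.inv_mem hdA), inv_inv, hm]; group
  have hnN : d⁻¹ * g ∈ Subgroup.normalizer (A : Set G) :=
    Subgroup.mul_mem _ (Subgroup.le_normalizer (A.inv_mem hdA)) hgN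
  refine ⟨d⁻¹ * g, ⟨mem_Q_of_commute_II hS hD hu ?_, hnN⟩, ?_⟩
  · show d⁻¹ * g * u = u * (d⁻¹ * g)
    calc d⁻¹ * g * u = d⁻¹ * (g * u * g⁻¹) * g := by group
      _ = _ := by rw [← h4]; group
  · have := cent_comm hS hD h2 hu huw hw (A.inv_mem hdA) hg
    calc d⁻¹ * g * c * (d⁻¹ * g)⁻¹ = d⁻¹ * (g * c * g⁻¹) * d := by group
      _ = _ := by rw [this]; group

theorem ncard_conj_inter {u w : G} (hu : u ∈ II G a) (huw : u * w * u = w⁻¹) (hw : w * w ≠ 1)
    {c : G} (hc : c ∈ Subgroup.centralizer {w}) (hc1 : c ≠ 1) :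
    ({x : G | ∃ g, g * c * g⁻¹ = x} ∩ Subgroup.centralizer ({w} : Set G)).ncard =
      Nat.card ↥(Q ⊓ Subgroup.normalizer (Subgroup.centralizer {w} : Set G)) := by
  symm
  refine Nat.card_eq_of_bijective (fun n => ⟨n * c * (n : G)⁻¹, ⟨n, rfl⟩,
    (Subgroup.mem_normalizer_iff.1 n.2.2 c).1 hc⟩) ⟨?_, ?_⟩
  · intro n n' e
    have e : (n : G) * c * (n : G)⁻¹ = n' * c * (n' : G)⁻¹ := congrArg Subtype.val e
    have h1 : (n' : G)⁻¹ * n ∈ Subgroup.centralizer {w} := by
      refine (cent_eq hS hD h2 hu huw hw hc hc1).le (Subgroup.mem_centralizer_singleton_iff.2 ?_)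
      calc (n' : G)⁻¹ * n * c = (n' : G)⁻¹ * (n * c * (n : G)⁻¹) * n := by group
        _ = _ := by rw [e]; group
    have := eq_one_of_mem_Q_of_odd h2 (Q.mul_mem (Q.inv_mem n'.2.1) n.2.1)
      (odd_orderOf_of_mem (odd_cent_of_inverted hS hu.2.2 huw hw) h1)
    exact Subtype.ext (inv_mul_eq_one.1 this).symm
  · rintro ⟨x, ⟨g, rfl⟩, hx⟩
    obtain ⟨n, hn, e⟩ := exists_E_conj hS hD h2 hu huw hw hc hc1 hx
    exact ⟨⟨n, hn⟩, Subtype.ext e⟩

theorem card_E_dvd (h4 : ∀ x ∈ Q, x ^ 4 = 1) {u w : G} (hu : u ∈ II G a)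
    (huw : u * w * u = w⁻¹) (hw : w * w ≠ 1) :
    Nat.card ↥(Q ⊓ Subgroup.normalizer (Subgroup.centralizer {w} : Set G)) ∣ 8 ∧
      2 ∣ Nat.card ↥(Q ⊓ Subgroup.normalizer (Subgroup.centralizer {w} : Set G)) := by
  set A := Subgroup.centralizer ({w} : Set G) with hA
  have hodd := odd_cent_of_inverted hS hu.2.2 huw hw
  have hinv := inverts_cent hS hD h2 hu huw hw
  have hui := inv_eq_of_mul_self hu.2.2
  have hwA : w ∈ A := Subgroup.mem_centralizer_singleton_iff.2 rfl
  have key : ∀ v ∈ Q ⊓ Subgroup.normalizer (A : Set G), v * v = 1 → v ≠ 1 → v = u := by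
    intro v hv hv2 hv1
    have hvI : v ∈ II G a := ⟨smul_of_mem_Q hS hv.1, hv1, hv2⟩
    have hvi := inv_eq_of_mul_self hv2
    obtain ⟨y, z, hy, hyv, hz, e⟩ := exists_cent_mul_inverted hv2 hodd
      (fun x hx => (Subgroup.mem_normalizer_iff.1 hv.2 x).1 hx) hwA
    rw [eq_one_of_mem_Q_of_odd h2 (mem_Q_of_commute_II hS hD hvI hyv) (odd_orderOf_of_mem hodd hy),
      one_mul] at e
    have h1 : v * w * v = w⁻¹ := by rw [e, ← hz.2, hvi]
    have h3 : u * v ∈ A := by
      rw [hA, Subgroup.mem_centralizer_singleton_iff]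
      calc u * v * w = u * (v * w * v) * u * u⁻¹ * v⁻¹ := by group
        _ = _ := by rw [h1, hinv _ (A.inv_mem hwA), hui, hvi]; group
    have := eq_one_of_mem_Q_of_odd h2 (Q.mul_mem (mem_Q_of_mem_II hS hu) hv.1)
      (odd_orderOf_of_mem hodd h3)
    rw [← hui]; exact eq_inv_of_mul_eq_one_right this
  constructor
  · refine card_dvd_eight (h2.to_le inf_le_left) (fun x => Subtype.ext (h4 x x.2.1)) ?_
    intro x y hx hy hx1
    by_cases hy1 : y = 1
    · exact Or.inl hy1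
    · right
      rw [pow_two] at hx hy
      exact Subtype.ext ((key y y.2 (congrArg Subtype.val hy) fun e => hy1 (Subtype.ext e)).trans
        (key x x.2 (congrArg Subtype.val hx) fun e => hx1 (Subtype.ext e)).symm)
  · refine (even_card_of_invol (x := u) (Subgroup.mem_inf.2 ⟨mem_Q_of_mem_II hS hu, ?_⟩)
      hu.2.1 hu.2.2).two_dvd
    have aux : ∀ x ∈ A, u * x * u⁻¹ ∈ A := fun x hx => by
      rw [hui, hinv x hx]; exact A.inv_mem hx
    show u ∈ Subgroup.normalizer (A : Set G)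
    rw [Subgroup.mem_normalizer_iff]
    refine fun x => ⟨aux x, fun h => ?_⟩
    have := aux _ h
    rwa [hui, ← mul_assoc, ← mul_assoc, hu.2.2, one_mul, mul_assoc, hu.2.2, mul_one] at this

theorem card_cent_le {u w : G} (hu : u ∈ II G a) (huw : u * w * u = w⁻¹) (hw : w * w ≠ 1) :
    Nat.card (Subgroup.centralizer {w}) ≤
      Nat.card ↥(Q ⊓ Subgroup.normalizer (Subgroup.centralizer {w} : Set G)) *
        Nat.card (II G a) + 1 := by
  classical
  set A := Subgroup.centralizer ({w} : Set G) with hA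
  have hinv := inverts_cent hS hD h2 hu huw hw
  have hex : ∀ c : G, ∃ u' : G, c ∈ A → c ≠ 1 → u' ∈ II G a ∧ ∃ g, g * c * g⁻¹ = u' * t := by
    intro c
    by_cases hc : c ∈ A ∧ c ≠ 1
    · have e : u * (u * c) = c := by rw [← mul_assoc, hu.2.2, one_mul]
      have hcc := sq_ne_one_of_mem_cent hS hu huw hw hc.1 hc.2
      obtain ⟨g, u', hu', h⟩ := strongly_real_conj hS hu.2.1 hu.2.2 (v := u * c)
        (fun h => hcc (by rw [← e, h, mul_one, hu.2.2]))
        (by rw [← mul_assoc, hinv c hc.1, inv_mul_cancel]) (by rwa [e])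
      exact ⟨u', fun _ _ => ⟨hu', g, by rwa [e] at h⟩⟩
    · exact ⟨1, fun h1 h3 => absurd ⟨h1, h3⟩ hc⟩
  choose φ hφ using hex
  have hfin : (II G a).Finite := Set.toFinite _
  have hA' : ((A : Set G) \ {1}).Finite := Set.toFinite _
  have h1 := Finset.card_le_mul_card_image_of_maps_to (s := hA'.toFinset) (t := hfin.toFinset)
    (f := φ) (fun c hc => by
      rw [Set.Finite.mem_toFinset] at hc ⊢
      exact (hφ c hc.1 hc.2).1)
    (Nat.card ↥(Q ⊓ Subgroup.normalizer (A : Set G))) (fun b _ => by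
      rcases (hA'.toFinset.filter (fun x => φ x = b)).eq_empty_or_nonempty with h | ⟨c, hc⟩
      · rw [h]; exact Nat.zero_le _
      · rw [Finset.mem_filter, Set.Finite.mem_toFinset] at hc
        rw [← ncard_conj_inter hS hD h2 hu huw hw hc.1.1 hc.1.2, ← Set.ncard_coe_finset]
        refine Set.ncard_le_ncard ?_
        intro x hx
        rw [Finset.mem_coe, Finset.mem_filter, Set.Finite.mem_toFinset] at hx
        obtain ⟨g, hg⟩ := (hφ c hc.1.1 hc.1.2).2
        obtain ⟨g', hg'⟩ := (hφ x hx.1.1 hx.1.2).2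
        refine ⟨⟨g'⁻¹ * g, ?_⟩, hx.1.1⟩
        calc g'⁻¹ * g * c * (g'⁻¹ * g)⁻¹ = g'⁻¹ * (g * c * g⁻¹) * g' := by group
          _ = x := by rw [hg, hc.2, ← hx.2, ← hg']; group)
  rw [← Set.ncard_eq_toFinset_card _ hA', ← Set.ncard_eq_toFinset_card _ hfin,
    Set.ncard_sdiff_singleton_of_mem A.one_mem] at h1
  have : (A : Set G).ncard = Nat.card A := rfl
  rw [this] at h1
  have : (II G a).ncard = Nat.card (II G a) := rfl
  rw [this] at h1
  omega

theorem exists_index_cent {u w : G} (hu : u ∈ II G a) (huw : u * w * u = w⁻¹) (hw : w * w ≠ 1) :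
    ∃ N, Nat.card G =
      (Nat.card ↥(Q ⊓ Subgroup.normalizer (Subgroup.centralizer {w} : Set G)) +
        Nat.card (Subgroup.centralizer {w}) * N) * Nat.card (Subgroup.centralizer {w}) := by
  set A := Subgroup.centralizer ({w} : Set G) with hA
  have hwA : w ∈ A := Subgroup.mem_centralizer_singleton_iff.2 rfl
  have hw1 : w ≠ 1 := fun h => hw (by rw [h, mul_one])
  obtain ⟨N, hN⟩ := card_dvd_ncard_of_conj_free A ({x : G | ∃ g, g * w * g⁻¹ = x} \ A) (by
      rintro h hh x ⟨⟨g, rfl⟩, hx⟩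
      refine ⟨⟨h * g, by group⟩, fun h' => hx ?_⟩
      simpa [mul_assoc] using A.mul_mem (A.mul_mem (A.inv_mem hh) h') hh)
    (by
      rintro h hh x ⟨-, hx⟩ e
      by_contra h1
      apply hx
      show x ∈ A
      rw [hA, ← cent_eq hS hD h2 hu huw hw hh h1, Subgroup.mem_centralizer_singleton_iff]
      exact (mul_inv_eq_iff_eq_mul.1 e).symm)
  refine ⟨N, ?_⟩
  rw [← ncard_conj_mul_card w, ← Set.ncard_inter_add_ncard_sdiff_eq_ncard _ (A : Set G), hN,
    ncard_conj_inter hS hD h2 hu huw hw hwA hw1]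

/-- In the Zassenhaus case with `t s t = s t s` and `Q` of exponent 4, `|Q| ≠ q³`. -/
theorem card_ne_cube (h4 : ∀ x ∈ Q, x ^ 4 = 1) {s : G} (hs : s ∈ II G a)
    (e : t * s * t = s⁻¹ * t * s) (hq : 2 < Nat.card (QZ G a)) :
    Nat.card Q ≠ Nat.card (QZ G a) ^ 3 := by
  intro hcard
  have hK : ∀ k ∈ KK a t, ∀ l ∈ KK a t, k * l ∈ KK a t :=
    fun k hk l hl => hD _ (Subgroup.mul_mem _ hk.1 hl.1)
  have hDc : Nat.card (DD a t) = Nat.card (QZ G a) - 1 := by
    rw [card_QZ_eq hS, Nat.add_sub_cancel]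
    exact Nat.card_congr (Equiv.subtypeEquivRight fun x => ⟨hD x, fun h => h.1⟩)
  obtain ⟨n, hn1, hn⟩ := exists_card_QZ hS
  have hI := card_QZ hS
  set q := Nat.card (QZ G a) with hqdef
  have hqe : 2 ∣ q := by rw [hn]; exact dvd_pow_self 2 (by omega)
  have hcop : (q + 1).Coprime (q ^ 3 * (q - 1)) := by
    refine Nat.Coprime.mul_right (Nat.Coprime.pow_right 3 (by simp)) ?_
    obtain ⟨p, hp⟩ : ∃ p, q = p + 1 := ⟨q - 1, by omega⟩
    rw [hp, Nat.add_sub_cancel, add_assoc, Nat.coprime_self_add_left]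
    exact Nat.coprime_two_left.2 (Nat.odd_iff.2 (by omega))
  have hfix : ∀ (c : G) (b : Ω), c • b = b → orderOf c ∣ q ^ 3 * (q - 1) := by
    intro c b hc
    obtain ⟨g, rfl⟩ := CL.RankOne.trans hS a b
    have h1 : g⁻¹ * c * g ∈ stabilizer G a := by
      rw [mem_stabilizer_iff, mul_smul, mul_smul, hc, inv_smul_smul]
    have h3 := Subgroup.orderOf_dvd_natCard _ h1
    rw [card_stabilizer hS, hcard, hDc] at h3
    have : orderOf (g⁻¹ * c * g) = orderOf c := by
      simpa using (MulAut.conj g⁻¹).orderOf_eq c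
    rwa [this] at h3
  obtain ⟨w₀, hw₀, ho₀⟩ := exists_orderOf_L0 hS hK hs e
  have B := bruData_QZ hS hK hs e
  obtain ⟨u, v, hu, hv, ho⟩ : ∃ u v, u ∈ QZ G a ∧ v * v = 1 ∧ orderOf (u * v) = q + 1 := by
    rcases (B.mem_bru_iff hS).1 hw₀ with ⟨x, hx, k, hk, rfl⟩ | ⟨x, hx, k, hk, y, hy, rfl⟩
    · have := hfix (x * k) a (by rw [mul_smul, (B.H_le hk).1, smul_of_mem_Q hS (B.S_le hx)])
      rw [ho₀] at this
      have := Nat.Coprime.eq_one_of_dvd hcop this
      omega
    · refine ⟨y * x, k * t, Subgroup.mul_mem _ hy hx,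
        K_mul_t_mul_self hS ((mem_KS hK).1 hk), ?_⟩
      have : y * x * (k * t) = MulAut.conj y (x * k * t * y) := by simp [mul_assoc]
      rw [this, MulEquiv.orderOf_eq, ho₀]
  set w := u * v with hwdef
  have hpow : ∀ (i : ℕ) (b : Ω), 0 < i → i < 3 → w ^ i • b ≠ b := by
    intro i b hi hi3 h
    have h1 := Nat.Coprime.eq_one_of_dvd
      (hcop.coprime_dvd_left (ho ▸ orderOf_pow_dvd i)) (hfix _ _ h)
    have := Nat.le_of_dvd hi (orderOf_dvd_of_pow_eq_one (orderOf_eq_one_iff.1 h1))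
    omega
  have hw : w * w ≠ 1 := fun h => hpow 2 a (by omega) (by omega) (by rw [pow_two, h, one_smul])
  have hu : u ∈ II G a := mem_II_of_mem_QZ hS hu (by
    rintro rfl
    exact hw (by rw [hwdef, one_mul, hv]))
  have huw : u * w * u = w⁻¹ := by
    rw [hwdef, ← mul_assoc, hu.2.2, one_mul, mul_inv_rev, inv_eq_of_mul_self hu.2.2,
      inv_eq_of_mul_self hv]
  set A := Subgroup.centralizer ({w} : Set G) with hA
  have hwA : w ∈ A := Subgroup.mem_centralizer_singleton_iff.2 rfl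
  have hinv := inverts_cent hS hD h2 hu huw hw
  obtain ⟨c, hc⟩ : q + 1 ∣ Nat.card A := ho ▸ Subgroup.orderOf_dvd_natCard _ hwA
  have hΩ := finite_Ω hS
  obtain ⟨d, hd⟩ : Nat.card A ∣ q ^ 3 + 1 := by
    rw [← hcard, ← card_Ω hS, ← Set.ncard_univ Ω]
    refine card_dvd_ncard_of_free (H := A) Set.univ (fun _ _ _ => trivial) ?_
    rintro ⟨c, hcA⟩ b - hb
    have hb : c • b = b := hb
    by_contra hc1
    have hc1 : c ≠ 1 := fun h => hc1 (Subtype.ext h)
    have e : u * (u * c) = c := by rw [← mul_assoc, hu.2.2, one_mul]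
    have hcw : ∀ i : ℕ, c • w ^ i • b = w ^ i • b := fun i => by
      rw [← mul_smul, (Commute.pow_right (Subgroup.mem_centralizer_singleton_iff.1 hcA) i).eq,
        mul_smul, hb]
    refine strongly_real_not_three hS hu.2.2 (v := u * c)
      (by rw [← mul_assoc, hinv c hcA, inv_mul_cancel])
      (by rw [e]; exact sq_ne_one_of_mem_cent hS hu huw hw hcA hc1)
      (hpow 1 b (by omega) (by omega)).symm (hpow 2 b (by omega) (by omega)).symm ?_
      (by rw [e, hb]) (by rw [e, hcw]) (by rw [e, hcw])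
    intro h
    rw [pow_two, mul_smul, pow_one, smul_left_cancel_iff] at h
    exact hpow 1 b (by omega) (by omega) (by rw [pow_one]; exact h.symm)
  obtain ⟨N, hN⟩ := exists_index_cent hS hD h2 hu huw hw
  obtain ⟨he, he2⟩ := card_E_dvd hS hD h2 h4 hu huw hw
  have hb := card_cent_le hS hD h2 hu huw hw
  refine cube_arith (q := q) (N := N) ⟨n, ?_, hn⟩ (hc.trans (mul_comm _ _))
    (odd_cent_of_inverted hS hu.2.2 huw hw) hd he he2 (by rwa [hI, Nat.add_sub_cancel]) ?_
  · by_contra h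
    have : n = 1 := by omega
    rw [this] at hn
    omega
  · rw [card_G hS, hcard, hDc, hd, mul_comm (Nat.card A) d, ← mul_assoc] at hN
    exact Nat.eq_of_mul_eq_mul_right Nat.card_pos hN

end setup

end CL.ROR
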