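import Cfsg.Agent.Base
import Cfsg.Agent.RankOneRec.Cube
import Cfsg.Agent.Lin.Card

/-!
If `t s t = s t s` and `|Q| = q³`, then `L₀ ≅ SL(2, q)` acts regularly on the points outside its
projective line; this gives every `x ∈ Q ∖ Q₀` two coordinate rows.
-/

set_option autoImplicit false

namespace CL.ROR

open Cfsg MulAction CL.RankOne OnePoint CL.PSL2Rec
open scoped MatrixGroups

variable {G Ω : Type*} [Group G] [MulAction G Ω] {a : Ω} {t : G} {Q : Subgroup G}

/-- The determinant of two rows (characteristic 2). -/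
def dt {F : Type*} [Field F] (v w : F × F) : F := v.1 * w.2 + v.2 * w.1

/-- Row coordinates for the elements of `Q ∖ Q₀`. -/
structure Crd (a : Ω) (t : G) (Q : Subgroup G) {F : Type} [Field F] (U : F → G)
    (P : G → F × F → F × F → Prop) : Prop where
  mem : ∀ {x v w}, P x v w → x ∈ Q ∧ x ∉ QZ G a
  det : ∀ {x v w}, P x v w → dt v w = 1
  ex : ∀ {x}, x ∈ Q → x ∉ QZ G a → ∃ v w, P x v w
  ex' : ∀ {v w}, dt v w = 1 → ∃ x, P x v w
  uniq : ∀ {x v w v' w'}, P x v w → P x v' w' → v = v' ∧ w = w'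
  uniq' : ∀ {x x' v w}, P x v w → P x' v w → x = x'
  mulU : ∀ {x v w} (b : F), P x v w → P (U b * x) (v + b • w) w
  swap : ∀ {x v w g h f}, P x v w → Can a t Q x g h f → P g w v
  scal : ∀ c : F, c ≠ 0 → ∃ k ∈ KK a t, (∀ b, k * U b * k⁻¹ = U (c ^ 2 * b)) ∧
    ∀ {x v w}, P x v w → P (k * x * k⁻¹) (c • v) (c⁻¹ • w)

section setup
variable (hS : IsRankOneSetup G Ω a t Q) [Finite G]
  (hK : ∀ k ∈ KK a t, ∀ l ∈ KK a t, k * l ∈ KK a t) {s : G} (hs : s ∈ II G a)
  (e : t * s * t = s⁻¹ * t * s)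
include hS hK hs e

theorem exists_Phi {F : Type} [Field F] [Fintype F] [CharP F 2] {U : F → G}
    (h : FieldData a t s F U) :
    ∃ Φ : SL(2, F) →* G, Function.Injective Φ ∧ (∀ m, Φ m ∈ bru t (QZ G a) (KS a t)) ∧
      (∀ b, Φ (affM 1 b one_ne_zero) = U b) ∧ Φ (weylM F) = t ∧
      ∀ (c : F) (hc : c ≠ 0), ∃ k ∈ KK a t, (∀ b, k * U b * k⁻¹ = U (c ^ 2 * b)) ∧
        Φ (affM c 0 hc) = k := by
  classical
  have B := bruData_QZ hS hK hs e
  have hUQ : ∀ x, U x ∈ Q := fun x => QZ_le hS (h.mem x)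
  let ι : OnePoint F → Ω := fun P => P.elim a (fun x => U x • t • a)
  have ι1 : ι ∞ = a := rfl
  have ι2 : ∀ x : F, ι x = U x • t • a := fun x => rfl
  have hne : ∀ x, U x • t • a ≠ a := fun x =>
    smul_ne_of_smul_eq hS (smul_of_mem_Q hS (hUQ x)) (ta_ne hS)
  have hι : Function.Injective ι := by
    intro P R e
    induction P using OnePoint.rec <;> induction R using OnePoint.rec
    · rfl
    · exact absurd e.symm (hne _)
    · exact absurd e (hne _)
    · exact congrArg _ (h.inj (eq_of_mem_Q_of_smul_eq hS (hUQ _) (hUQ _) (ta_ne hS) e))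
  have hU : ∀ b : F, ∀ P, U b • ι P = ι (mob F (affM 1 b one_ne_zero) P) := by
    intro b P
    induction P using OnePoint.rec with
    | infty => rw [mob_affM_infty, ι1, smul_of_mem_Q hS (hUQ b)]
    | coe x => rw [mob_affM_coe, ι2, ι2, one_pow, one_mul, add_comm, h.add, mul_smul]
  have hk : ∀ k ∈ KK a t, ∀ c : F, (hc : c ≠ 0) → (∀ x, k * U x * k⁻¹ = U (c ^ 2 * x)) →
      ∀ P, k • ι P = ι (mob F (affM c 0 hc) P) := by
    intro k hk c hc hkc P
    induction P using OnePoint.rec with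
    | infty => rw [mob_affM_infty, ι1, hk.1.1]
    | coe x =>
      rw [mob_affM_coe, ι2, ι2, add_zero, ← hkc, mul_smul, mul_smul,
        (Subgroup.inv_mem _ hk.1).2]
  have ht : ∀ P, t • ι P = ι (mob F (weylM F) P) := by
    intro P
    induction P using OnePoint.rec with
    | infty => rw [mob_weylM_infty, ι1, ι2, h.zero, one_smul]
    | coe x =>
      by_cases hx : x = 0
      · rw [hx, mob_weylM_zero, ι1, ι2, h.zero, one_smul, tta hS]
      · obtain ⟨k, hk, hkx⟩ := h.scal x hx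
        have c := (can_s (a := a) (mem_Q_of_mem_II hS hs) e).conjK' hS hk
        have h1 : k * s * k⁻¹ = U x := by rw [← h.one, hkx, mul_one]
        have h2 : k⁻¹ * s⁻¹ * k = U x⁻¹ := by
          rw [inv_eq_of_mul_self hs.2.2, ← h.one, ← mul_inv_cancel₀ hx, ← hkx]; group
        rw [h1, h2] at c
        rw [mob_weylM_coe x hx, ι2, ι2, c.smul hS, CharTwo.neg_eq]
  have hsq : ∀ c : F, ∃ d, c = d ^ 2 := fun c => by
    obtain ⟨d, hd⟩ := (frobeniusEquiv F 2).surjective c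
    exact ⟨d, by rw [← hd]; rfl⟩
  let M := (mob F).range
  obtain ⟨φ, hφ⟩ := equiv_of_lift (M := M) ι hι (bru t (QZ G a) (KS a t)) (by
      have : bru t (QZ G a) (KS a t) ≤ liftSub G M ι := by
        refine bru_le ?_ ?_ ⟨⟨_, _, rfl⟩, ht⟩
        · intro z hz
          obtain ⟨b, rfl⟩ := h.surj z hz
          exact ⟨⟨_, _, rfl⟩, hU b⟩
        · intro k hk'
          have hk' := (mem_KS hK).1 hk'
          obtain ⟨c, hc, hkc⟩ := h.conj k hk'
          obtain ⟨d, rfl⟩ := hsq c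
          exact ⟨⟨_, _, rfl⟩, hk k hk' d (fun e => hc (by rw [e]; simp)) hkc⟩
      exact fun l hl => this hl)
    (by
      rintro ⟨_, m, rfl⟩
      let N := liftedSub (Equiv.Perm (OnePoint F)) ι (bru t (QZ G a) (KS a t))
      have hup : ∀ c : F, mob F (affM 1 c one_ne_zero) ∈ N := fun c =>
        ⟨U c, le_bru_S _ _ _ (h.mem c), hU c⟩
      have hw : mob F (weylM F) ∈ N := ⟨t, t_mem_bru _ _ _, ht⟩
      refine Matrix.SL2.transvection_induction (fun m => mob F m ∈ N) ?_ ?_ m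
      · intro i j hij c
        fin_cases i <;> fin_cases j
        · exact absurd rfl hij
        · convert hup c using 2
          ext i j
          fin_cases i <;> fin_cases j <;>
            simp [affM, Matrix.SpecialLinearGroup.transvection_coe]
        · have : (Matrix.SpecialLinearGroup.transvection hij c : SL(2, F)) =
              weylM F * affM 1 (-c) one_ne_zero * (weylM F)⁻¹ := by
            rw [eq_mul_inv_iff_mul_eq]
            ext i j
            rw [Matrix.SpecialLinearGroup.coe_mul, Matrix.SpecialLinearGroup.coe_mul,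
              Matrix.SpecialLinearGroup.transvection_coe]
            fin_cases i <;> fin_cases j <;>
              simp [affM, weylM, Matrix.mul_apply, Fin.sum_univ_two]
          simp only [this, map_mul, map_inv]
          exact mul_mem (mul_mem hw (hup _)) (inv_mem hw)
        · exact absurd rfl hij
      · intro A B hA hB
        rw [map_mul]
        exact mul_mem hA hB)
    (by
      intro l hl hfix
      have h0 := hfix (0 : F)
      rw [ι2, h.zero, one_smul] at h0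
      have hlK := (mem_KS hK).1 (B.mem_H hS hl ⟨hfix ∞, h0⟩)
      by_contra hl1
      rcases fixed_of_mem_KK hS hlK hl1 (hfix (1 : F)) with h1 | h1
      · exact hne 1 h1
      · rw [ι2] at h1
        exact hs.2.1 (h.one ▸ eq_one_of_mem_Q_of_smul_ta hS (hUQ 1) h1))
  let Φ : SL(2, F) →* G :=
    (bru t (QZ G a) (KS a t)).subtype.comp (φ.symm.toMonoidHom.comp (mob F).rangeRestrict)
  have key : ∀ (l : G) (hl : l ∈ bru t (QZ G a) (KS a t)) (m : SL(2, F)),
      (∀ P, l • ι P = ι (mob F m P)) → Φ m = l := by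
    intro l hl m hm
    have : φ ⟨l, hl⟩ = (mob F).rangeRestrict m :=
      Subtype.ext (Equiv.ext fun P => hι ((hφ ⟨l, hl⟩ P).symm.trans (hm P)))
    change ((φ.symm ((mob F).rangeRestrict m) : bru t (QZ G a) (KS a t)) : G) = l
    rw [← this, MulEquiv.symm_apply_apply]
  refine ⟨Φ, ?_, fun m => (φ.symm _).2, fun b => key _ (le_bru_S _ _ _ (h.mem b)) _ (hU b),
    key _ (t_mem_bru _ _ _) _ ht, fun c hc => ?_⟩
  · refine Subtype.val_injective.comp (φ.symm.injective.comp ?_)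
    rw [MonoidHom.rangeRestrict_injective_iff, ← MonoidHom.ker_eq_bot_iff, mob_ker, eq_bot_iff]
    intro z hz
    obtain ⟨r, hr, hz⟩ := Matrix.SpecialLinearGroup.mem_center_iff.1 hz
    rw [Fintype.card_fin, pow_two, mul_self_eq_one_iff, CharTwo.neg_eq, or_self] at hr
    rw [Subgroup.mem_bot]
    ext1
    rw [← hz, hr]; simp
  · obtain ⟨k, hkK, hkc⟩ := h.scal (c ^ 2) (pow_ne_zero 2 hc)
    exact ⟨k, hkK, hkc, key _ (le_bru_H _ _ _ (mem_KS_of_mem_KK hkK)) _ (hk k hkK c hc hkc)⟩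

/-- Every element of `L₀` is a product of two elements of order at most 2. -/
theorem L0_strongly_real {l : G} (hl : l ∈ bru t (QZ G a) (KS a t)) :
    ∃ u v : G, u * u = 1 ∧ v * v = 1 ∧ l = u * v := by
  have B := bruData_QZ hS hK hs e
  have aux : ∀ l ∈ bru t (QZ G a) (KS a t), l • a ≠ a →
      ∃ u v : G, u * u = 1 ∧ v * v = 1 ∧ l = u * v := by
    intro l hl hla
    rcases (B.mem_bru_iff hS).1 hl with ⟨x, hx, k, hk, rfl⟩ | ⟨x, hx, k, hk, y, hy, rfl⟩
    · exact absurd (by rw [mul_smul, (B.H_le hk).1, smul_of_mem_Q hS (B.S_le hx)]) hla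
    · exact ⟨y⁻¹ * (y * x) * y, y⁻¹ * (k * t) * y,
        conj_mul_self' (QZ_mul_self hS (Subgroup.mul_mem _ hy hx)) y,
        conj_mul_self' (K_mul_t_mul_self hS ((mem_KS hK).1 hk)) y, by group⟩
  by_cases h1 : l • a = a
  · by_cases h2 : l • t • a = t • a
    · exact ⟨l * t, t, K_mul_t_mul_self hS ((mem_KS hK).1 (B.mem_H hS hl ⟨h1, h2⟩)), hS.mul_self,
        by rw [mul_assoc, hS.mul_self, mul_one]⟩
    · obtain ⟨u, v, hu, hv, h⟩ := aux (t⁻¹ * l * t) (Subgroup.mul_mem _ (Subgroup.mul_mem _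
        (Subgroup.inv_mem _ (t_mem_bru _ _ _)) hl) (t_mem_bru _ _ _))
        (fun h => h2 (by rwa [mul_smul, mul_smul, inv_smul_eq_iff] at h))
      exact ⟨t * u * t⁻¹, t * v * t⁻¹, conj_mul_self hu t, conj_mul_self hv t, by
        calc l = t * (t⁻¹ * l * t) * t⁻¹ := by group
          _ = _ := by rw [h]; group⟩
  · exact aux l hl h1

omit hK hs e in
theorem ncard_outer : {c : Ω | ∃ x ∈ Q, x ∉ QZ G a ∧ c = x • t • a}.ncard =
    Nat.card Q - Nat.card (QZ G a) := by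
  have h1 : {c : Ω | ∃ x ∈ Q, x ∉ QZ G a ∧ c = x • t • a} =
      (fun x : G => x • t • a) '' ((Q : Set G) \ QZ G a) := by
    ext c
    constructor
    · rintro ⟨x, h1, h2, rfl⟩; exact ⟨x, ⟨h1, h2⟩, rfl⟩
    · rintro ⟨x, ⟨h1, h2⟩, rfl⟩; exact ⟨x, h1, h2, rfl⟩
  rw [h1, Set.InjOn.ncard_image fun x hx y hy h =>
    eq_of_mem_Q_of_smul_eq hS hx.1 hy.1 (ta_ne hS) h, Set.ncard_sdiff (QZ_le hS)]
  rfl

theorem smul_outer {l : G} (hl : l ∈ bru t (QZ G a) (KS a t)) {x : G} (hx : x ∈ Q)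
    (hx0 : x ∉ QZ G a) : ∃ y ∈ Q, y ∉ QZ G a ∧ l • x • t • a = y • t • a := by
  have B := bruData_QZ hS hK hs e
  have h1 : ∀ g ∈ bru t (QZ G a) (KS a t), g • a ≠ x • t • a := by
    intro g hg h
    rcases B.smul_a hS hg with h' | ⟨z, hz, h'⟩
    · exact smul_ne_of_smul_eq hS (smul_of_mem_Q hS hx) (ta_ne hS) (h.symm.trans h')
    · exact hx0 (eq_of_mem_Q_of_smul_eq hS (B.S_le hz) hx (ta_ne hS) (h'.symm.trans h) ▸ hz)
  obtain ⟨y, hy, h⟩ := exists_smul_ta_eq hS (b := l • x • t • a) (fun h =>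
    h1 l⁻¹ (Subgroup.inv_mem _ hl) (by rw [inv_smul_eq_iff, h]))
  refine ⟨y, hy, fun hy0 => h1 (l⁻¹ * y * t) (Subgroup.mul_mem _ (Subgroup.mul_mem _
    (Subgroup.inv_mem _ hl) (le_bru_S _ _ _ hy0)) (t_mem_bru _ _ _)) ?_, h.symm⟩
  rw [mul_smul, mul_smul, h, inv_smul_smul]

/-- `L₀` acts semiregularly outside its projective line when `|Q| = q³`. -/
theorem L0_semiregular (hcard : Nat.card Q = Nat.card (QZ G a) ^ 3) {l : G}
    (hl : l ∈ bru t (QZ G a) (KS a t)) {x : G} (hx : x ∈ Q) (hx0 : x ∉ QZ G a)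
    (hfix : l • x • t • a = x • t • a) : l = 1 := by
  by_contra hl1
  have hΩ := finite_Ω hS
  obtain ⟨p, hp, hpl⟩ := Nat.exists_prime_and_dvd (fun h => hl1 (orderOf_eq_one_iff.1 h))
  set y := l ^ (orderOf l / p) with hy
  have hyo : orderOf y = p := orderOf_pow_orderOf_div (orderOf_pos l).ne' hpl
  have hyL : y ∈ bru t (QZ G a) (KS a t) := Subgroup.pow_mem _ hl _
  have hyfix : y • x • t • a = x • t • a := (stabilizer G (x • t • a)).pow_mem hfix _
  have hy1 : y ≠ 1 := fun h => hp.one_lt.ne' (by rw [← hyo, h, orderOf_one])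
  set T := {c : Ω | ∃ x ∈ Q, x ∉ QZ G a ∧ c = x • t • a} with hT
  have h1 : p ∣ T.ncard := by
    have := Subgroup.orderOf_dvd_natCard _ hyL
    rw [(bruData_QZ hS hK hs e).card_bru hS, hyo, card_KS hK] at this
    rw [ncard_outer hS, hcard]
    have h2 := card_QZ_eq hS
    generalize Nat.card (QZ G a) = q at *
    subst h2
    convert this using 1
    exact (Nat.eq_sub_of_add_eq (by ring)).symm
  have h2 : p ∣ (T \ {c | y • c = c}).ncard := by
    rw [← hyo, ← Nat.card_zpowers]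
    refine card_dvd_ncard_of_free _ ?_ ?_
    · rintro ⟨h, hh⟩ _ ⟨⟨z, hz, hz0, rfl⟩, hc⟩
      refine ⟨smul_outer hS hK hs e ((Subgroup.zpowers_le.2 hyL) hh) hz hz0, fun h' => hc ?_⟩
      obtain ⟨n, rfl⟩ := hh
      have h' : y • y ^ n • z • t • a = y ^ n • z • t • a := h'
      rwa [← mul_smul, ← zpow_one_add, add_comm, zpow_add_one, mul_smul, smul_left_cancel_iff] at h'
    · rintro ⟨h, hh⟩ c ⟨-, hc⟩ hfix
      by_contra hh1
      have : Fact p.Prime := ⟨hp⟩
      obtain ⟨n, hn⟩ := mem_zpowers_of_prime_card (G := Subgroup.zpowers y)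
        (by rw [Nat.card_zpowers, hyo]) (g' := ⟨y, Subgroup.mem_zpowers y⟩) hh1
      have h3 : (⟨h, hh⟩ : Subgroup.zpowers y) ^ n • c = c :=
        (stabilizer (Subgroup.zpowers y) c).zpow_mem hfix n
      have hn' : (⟨h, hh⟩ : Subgroup.zpowers y) ^ n = ⟨y, Subgroup.mem_zpowers y⟩ := hn
      rw [hn'] at h3
      exact hc h3
  rw [← Set.ncard_inter_add_ncard_sdiff_eq_ncard T {c | y • c = c}] at h1
  have h3 : p ≤ (T ∩ {c | y • c = c}).ncard :=
    Nat.le_of_dvd ((Set.ncard_pos (Set.toFinite _)).2 ⟨_, ⟨x, hx, hx0, rfl⟩, hyfix⟩)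
      ((Nat.dvd_add_left h2).1 h1)
  by_cases hyy : y * y = 1
  · obtain ⟨b, c, hb, hc, hbc⟩ := (Set.one_lt_ncard_iff (Set.toFinite _)).1 (hp.one_lt.trans_le h3)
    exact hbc (fixed_unique hS hy1 hyy hb.2 hc.2)
  · have hp2 : p ≠ 2 := fun h => hyy (by rw [← pow_two, ← h, ← hyo, pow_orderOf_eq_one])
    obtain ⟨b, c, d, hb, hc, hd, h⟩ := (Set.two_lt_ncard_iff (Set.toFinite _)).1
      ((lt_of_le_of_ne hp.two_le hp2.symm).trans_le h3)
    obtain ⟨u, v, hu, hv, e'⟩ := L0_strongly_real hS hK hs e hyL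
    rw [e'] at hyy hb hc hd
    exact strongly_real_not_three hS hu hv hyy h.1 h.2.1 h.2.2 hb.2 hc.2 hd.2

theorem exists_crd (hcard : Nat.card Q = Nat.card (QZ G a) ^ 3) {F : Type} [Field F] [Fintype F]
    [CharP F 2] {U : F → G} (h : FieldData a t s F U) :
    ∃ P : G → F × F → F × F → Prop, Crd a t Q U P := by
  classical
  obtain ⟨Φ, hinj, hmem, hΦU, hΦt, hΦk⟩ := exists_Phi hS hK hs e h
  have hq : 1 < Nat.card (QZ G a) := by rw [← h.card]; exact Fintype.one_lt_card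
  obtain ⟨x₀, hx₀, hx₀'⟩ : ∃ x ∈ Q, x ∉ QZ G a := by
    by_contra hh
    push Not at hh
    have := Subgroup.card_le_of_le (show Q ≤ QZ G a from hh)
    rw [hcard] at this
    have := Nat.pow_lt_pow_right hq (show 1 < 3 by norm_num)
    rw [pow_one] at this
    omega
  have hinj' : ∀ m m' : SL(2, F), Φ m • x₀ • t • a = Φ m' • x₀ • t • a → m = m' := by
    intro m m' hm
    have := L0_semiregular hS hK hs e hcard (hmem (m'⁻¹ * m)) hx₀ hx₀'
      (by rw [map_mul, map_inv, mul_smul, hm, inv_smul_smul])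
    rw [← map_one Φ] at this
    exact (inv_mul_eq_one.1 (hinj this)).symm
  have hsurj : ∀ x ∈ Q, x ∉ QZ G a → ∃ m, Φ m • x₀ • t • a = x • t • a := by
    have hΩ := finite_Ω hS
    have : Set.range (fun m => Φ m • x₀ • t • a) =
        {c : Ω | ∃ x ∈ Q, x ∉ QZ G a ∧ c = x • t • a} := by
      refine Set.eq_of_subset_of_ncard_le ?_ (le_of_eq ?_)
      · rintro _ ⟨m, rfl⟩
        exact smul_outer hS hK hs e (hmem m) hx₀ hx₀'
      · rw [ncard_outer hS, Set.ncard_range_of_injective hinj', CL.Lin.card_SL_two, hcard, h.card]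
        obtain ⟨p, hp⟩ : ∃ p, Nat.card (QZ G a) = p + 1 := ⟨_, (Nat.sub_add_cancel hq.le).symm⟩
        rw [hp, Nat.add_sub_cancel]
        exact Nat.sub_eq_of_eq_add (by ring)
    intro x hx hx0
    have h1 : x • t • a ∈ Set.range (fun m => Φ m • x₀ • t • a) := by
      rw [this]; exact ⟨x, hx, hx0, rfl⟩
    exact h1
  have hext : ∀ m m' : SL(2, F), m 0 0 = m' 0 0 → m 0 1 = m' 0 1 → m 1 0 = m' 1 0 →
      m 1 1 = m' 1 1 → m = m' := by
    intro m m' h1 h2 h3 h4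
    ext i j; fin_cases i <;> fin_cases j <;> assumption
  have hmul : ∀ (m m' : SL(2, F)) (i j : Fin 2), (m * m') i j = m i 0 * m' 0 j + m i 1 * m' 1 j := by
    intro m m' i j
    rw [Matrix.SpecialLinearGroup.coe_mul, Matrix.mul_apply, Fin.sum_univ_two]
  refine ⟨fun x v w => x ∈ Q ∧ x ∉ QZ G a ∧ ∃ m : SL(2, F), (m 0 0, m 0 1) = v ∧
    (m 1 0, m 1 1) = w ∧ Φ m • x₀ • t • a = x • t • a, fun h => ⟨h.1, h.2.1⟩, ?_, ?_, ?_, ?_, ?_,
    ?_, ?_, ?_⟩
  · rintro x _ _ ⟨-, -, m, rfl, rfl, -⟩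
    have := m.2
    rw [Matrix.det_fin_two, CharTwo.sub_eq_add] at this
    exact this
  · intro x hx hx0
    obtain ⟨m, hm⟩ := hsurj x hx hx0
    exact ⟨_, _, hx, hx0, m, rfl, rfl, hm⟩
  · intro v w hvw
    let m : SL(2, F) := ⟨!![v.1, v.2; w.1, w.2], by
      rw [Matrix.det_fin_two_of, CharTwo.sub_eq_add]; exact hvw⟩
    obtain ⟨y, hy, hy0, hm⟩ := smul_outer hS hK hs e (hmem m) hx₀ hx₀'
    exact ⟨y, hy, hy0, m, rfl, rfl, hm⟩
  · rintro x _ _ _ _ ⟨-, -, m, rfl, rfl, hm⟩ ⟨-, -, m', rfl, rfl, hm'⟩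
    rw [hinj' m m' (hm.trans hm'.symm)]
    exact ⟨rfl, rfl⟩
  · rintro x x' _ _ ⟨hx, -, m, rfl, rfl, hm⟩ ⟨hx', -, m', h1, h2, hm'⟩
    rw [Prod.mk.injEq] at h1 h2
    rw [hext m' m h1.1 h1.2 h2.1 h2.2] at hm'
    exact eq_of_mem_Q_of_smul_eq hS hx hx' (ta_ne hS) (hm.symm.trans hm')
  · rintro x _ _ b ⟨hx, hx0, m, rfl, rfl, hm⟩
    refine ⟨Q.mul_mem (QZ_le hS (h.mem b)) hx, fun h' => hx0 ?_, affM 1 b one_ne_zero * m, ?_, ?_,
      by rw [map_mul, hΦU, mul_smul, hm, mul_smul]⟩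
    · simpa using Subgroup.mul_mem _ (Subgroup.inv_mem _ (h.mem b)) h'
    · simp only [hmul]; simp [affM]
    · simp only [hmul]; simp [affM]
  · rintro x _ _ g k f ⟨hx, hx0, m, rfl, rfl, hm⟩ c
    obtain ⟨y, hy, hy0, hy'⟩ := smul_outer hS hK hs e (t_mem_bru t _ _) hx hx0
    rw [c.smul hS] at hy'
    obtain rfl := eq_of_mem_Q_of_smul_eq hS c.g_mem hy (ta_ne hS) hy'
    refine ⟨hy, hy0, weylM F * m, ?_, ?_, by rw [map_mul, hΦt, mul_smul, hm, c.smul hS]⟩
    · simp only [hmul]; simp [weylM, CharTwo.neg_eq]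
    · simp only [hmul]; simp [weylM]
  · intro c hc
    obtain ⟨k, hk, hkc, hk'⟩ := hΦk c hc
    refine ⟨k, hk, hkc, ?_⟩
    rintro x _ _ ⟨hx, hx0, m, rfl, rfl, hm⟩
    refine ⟨conj_mem_Q hS hk.1.1 hx, fun h' => hx0 ?_, affM c 0 hc * m, ?_, ?_, ?_⟩
    · simpa [mul_assoc] using conj_mem_QZ' hS hk.1.1 h'
    · simp only [hmul]; simp [affM]
    · simp only [hmul]; simp [affM]
    · rw [map_mul, hk', mul_smul, hm, mul_smul, mul_smul, (Subgroup.inv_mem _ hk.1).2]

end setup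

end CL.ROR
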