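import Cfsg.Agent.Base
import Cfsg.Agent.RankOneRec.Cube
import Cfsg.Agent.Zass.Pair
import Cfsg.Agent.S1137
import Cfsg.Agent.S1138

/-!
Suzuki 2-groups in the rank-one set-up; the case `r² = s` (`n` odd, `|Q| ≠ q³`); Zassenhaus groups
whose Frobenius kernel is a non-abelian 2-group have `|Q| = q²`, `q = 2^n`, `n` odd.
-/

set_option autoImplicit false

namespace CL.ROR

open Cfsg MulAction CL.RankOne

variable {G Ω : Type*} [Group G] [MulAction G Ω] {a : Ω} {t : G} {Q : Subgroup G}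

/-- The conjugation action of `H` on a subgroup `S` it normalises. -/
def rho (H S : Subgroup G) (h : ∀ k ∈ H, ∀ x ∈ S, k * x * k⁻¹ ∈ S) : H →* MulAut S :=
  S.normalizerMonoidHom.comp (Subgroup.inclusion (fun k hk => Subgroup.mem_normalizer_iff.2
    fun x => ⟨h k hk x, fun hx => by simpa [mul_assoc] using h _ (H.inv_mem hk) _ hx⟩))

theorem rho_apply (H S : Subgroup G) (h : ∀ k ∈ H, ∀ x ∈ S, k * x * k⁻¹ ∈ S) (k : H) (x : S) :
    (rho H S h k x : G) = k * x * (k : G)⁻¹ := rfl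

section setup
variable (hS : IsRankOneSetup G Ω a t Q) [Finite G]
include hS

theorem rho_regular (hK : ∀ k ∈ KK a t, ∀ l ∈ KK a t, k * l ∈ KK a t) {S : Subgroup G}
    (hSQ : S ≤ Q) (h : ∀ k ∈ KS a t, ∀ x ∈ S, k * x * k⁻¹ ∈ S) (x y : S) (hx1 : x ≠ 1)
    (hx : x * x = 1) (hy1 : y ≠ 1) (hy : y * y = 1) : ∃! k : KS a t, rho _ S h k x = y := by
  have hxI : (x : G) ∈ II G a := ⟨smul_of_mem_Q hS (hSQ x.2), fun e => hx1 (Subtype.ext e),
    congrArg Subtype.val hx⟩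
  have hyI : (y : G) ∈ II G a := ⟨smul_of_mem_Q hS (hSQ y.2), fun e => hy1 (Subtype.ext e),
    congrArg Subtype.val hy⟩
  obtain ⟨k, hk, e⟩ := exists_K_conj_eq hS hxI hyI
  refine ⟨⟨k⁻¹, mem_KS_of_mem_KK (inv_mem_invertedBy hk)⟩, Subtype.ext ?_, fun l hl => ?_⟩
  · rw [rho_apply]; simpa using e
  · have hl' : (l : G) * x * (l : G)⁻¹ = y := congrArg Subtype.val hl
    have := eq_of_K_conj_eq hS hxI (inv_mem_invertedBy ((mem_KS hK).1 l.2)) hk
      (by rw [inv_inv, hl', e])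
    exact Subtype.ext (by simp [← this])

theorem exists_two_invol {S : Subgroup G} (hZS : QZ G a ≤ S) (hq : 2 < Nat.card (QZ G a)) :
    ∃ x y : S, x ≠ y ∧ x ≠ 1 ∧ x * x = 1 ∧ y ≠ 1 ∧ y * y = 1 := by
  rw [card_QZ hS] at hq
  have : Nontrivial (II G a) := Finite.one_lt_card_iff_nontrivial.1 (by omega)
  obtain ⟨⟨x, hx⟩, ⟨y, hy⟩, hxy⟩ := exists_pair_ne (II G a)
  exact ⟨⟨x, hZS (mem_QZ_of_mem_II hx)⟩, ⟨y, hZS (mem_QZ_of_mem_II hy)⟩,
    fun e => hxy (Subtype.ext (congrArg Subtype.val e :)),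
    fun e => hx.2.1 (congrArg Subtype.val e), Subtype.ext hx.2.2,
    fun e => hy.2.1 (congrArg Subtype.val e), Subtype.ext hy.2.2⟩

theorem isSuzukiTwoGroup (hK : ∀ k ∈ KK a t, ∀ l ∈ KK a t, k * l ∈ KK a t) {S : Subgroup G}
    (hZS : QZ G a ≤ S) (hSQ : S ≤ Q) (h : ∀ k ∈ KS a t, ∀ x ∈ S, k * x * k⁻¹ ∈ S)
    (h2 : IsPGroup 2 S) (hna : ∃ x y : S, x * y ≠ y * x) (hq : 2 < Nat.card (QZ G a)) :
    IsSuzukiTwoGroup S := by
  refine ⟨inferInstance, h2, hna, exists_two_invol hS hZS hq, (rho _ S h).range, ?_, ?_⟩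
  · have := isCyclic_KS hS hK
    exact isCyclic_of_surjective _ (rho _ S h).rangeRestrict_surjective
  · intro x y hx1 hx hy1 hy
    obtain ⟨k, hk, huniq⟩ := rho_regular hS hK hSQ h x y hx1 hx hy1 hy
    refine ⟨⟨_, k, rfl⟩, hk, ?_⟩
    rintro ⟨_, l, rfl⟩ hl
    rw [huniq l hl]

theorem card_center_eq {S : Subgroup G} (hZS : QZ G a ≤ S) (hSQ : S ≤ Q)
    (hP : IsSuzukiTwoGroup S) : Nat.card (Subgroup.center S) = Nat.card (QZ G a) := by
  obtain ⟨h1, h3⟩ := Cfsg.Agent.S1137.result hP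
  refine Nat.card_eq_of_bijective (fun z => ⟨z.1.1, (mem_QZ_iff hS).2 ⟨hSQ z.1.2,
    congrArg Subtype.val (h3 z.1 z.2)⟩⟩) ⟨fun z z' e => ?_, fun ⟨z, hz⟩ => ?_⟩
  · exact Subtype.ext (Subtype.ext (congrArg Subtype.val e :))
  · refine ⟨⟨⟨z, hZS hz⟩, Subgroup.mem_center_iff.2 fun y => Subtype.ext ?_⟩, rfl⟩
    exact (QZ_comm hS hz (hSQ y.2)).symm

/-- If `r² = s` then `|Q₀| = 2 ^ n` with `n` odd. -/
theorem odd_of_sq (hK : ∀ k ∈ KK a t, ∀ l ∈ KK a t, k * l ∈ KK a t) {s r : G} (hs : s ∈ II G a)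
    (hr : r ∈ Q) (e : t * s * t = r⁻¹ * t * r) (h2 : r * r = s) {n : ℕ}
    (hn : Nat.card (QZ G a) = 2 ^ n) : Odd n := by
  by_contra hev
  obtain ⟨m, rfl⟩ := Nat.not_odd_iff_even.1 hev
  have h3 : 3 ∣ Nat.card (KS a t) := by
    have h4 : 2 ^ (m + m) ≡ 1 [MOD 3] := by
      rw [← two_mul, pow_mul]
      simpa using (show 2 ^ 2 ≡ 1 [MOD 3] by decide).pow m
    rw [card_QZ_eq hS, ← card_KS hK] at hn
    rw [← hn] at h4
    exact (Nat.modEq_zero_iff_dvd).1 (Nat.ModEq.add_right_cancel' 1 (by simpa using h4))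
  have : Fact (Nat.Prime 3) := ⟨Nat.prime_three⟩
  obtain ⟨k, hk⟩ := exists_prime_orderOf_dvd_card' 3 h3
  refine K_cube_ne_one hS hs hr e h2 ((mem_KS hK).1 k.2) (fun h => ?_) ?_
  · rw [show k = 1 from Subtype.ext h, orderOf_one] at hk; omega
  · rw [← hk]; exact congrArg Subtype.val (pow_orderOf_eq_one k)

/-- An element of prime order `p` fixes three points if `|Ω| % p ≥ 3`. -/
theorem exists_three_fixed {p : ℕ} (hp : p.Prime) {g : G} (hg : g ^ p = 1)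
    (h3 : 3 ≤ (Nat.card Q + 1) % p) :
    ∃ b c d : Ω, b ≠ c ∧ b ≠ d ∧ c ≠ d ∧ g • b = b ∧ g • c = c ∧ g • d = d := by
  have := finite_Ω hS
  have h1 := CL.Zass.nfix_modEq (Ω := Ω) hp hg
  rw [card_Ω hS] at h1
  have h4 : 2 < {x : Ω | g • x = x}.ncard := by
    have := Nat.mod_le (CL.Zass.nfix Ω g) p
    rw [← CL.Zass.nfix_def]
    unfold Nat.ModEq at h1
    omega
  obtain ⟨b, c, d, hb, hc, hd, h⟩ := (Set.two_lt_ncard_iff (Set.toFinite _)).1 h4
  exact ⟨b, c, d, h.1, h.2.1, h.2.2, hb, hc, hd⟩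

/-- If `s t` has order 5 and `|Q₀| = 2 ^ n` with `n` odd, then `|Q| ≠ q³`. -/
theorem card_ne_cube_of_five {s : G} (hs : s ∈ II G a) (h5 : (s * t) ^ 5 = 1) {n : ℕ}
    (hn : Odd n) : Nat.card Q ≠ (2 ^ n) ^ 3 := by
  intro hc
  obtain ⟨b, c, d, h1, h2, h3, h4, h6, h7⟩ := exists_three_fixed hS Nat.prime_five h5 (by
    obtain ⟨m, rfl⟩ := hn
    have h4 : (2 ^ (2 * m + 1)) % 5 = 2 ∨ (2 ^ (2 * m + 1)) % 5 = 3 := by
      clear hc
      induction m with
      | zero => simp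
      | succ m ih =>
        rw [show 2 * (m + 1) + 1 = 2 * m + 1 + 2 by ring, pow_add]
        omega
    rw [hc, Nat.add_mod, Nat.pow_mod]
    rcases h4 with h | h <;> simp [h])
  exact strongly_real_not_three hS hs.2.2 hS.mul_self (mul_t_sq_ne_one hS hs) h1 h2 h3 h4 h6 h7

/-- The Zassenhaus case `D = K` with `Q` a non-abelian 2-group. -/
theorem zt_card (hD : ∀ d ∈ DD a t, d ∈ KK a t) (h2 : IsPGroup 2 Q)
    (hna : ∃ x y : Q, x * y ≠ y * x) (hq : 2 < Nat.card (QZ G a)) :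
    ∃ n, Odd n ∧ 1 < n ∧ Nat.card (QZ G a) = 2 ^ n ∧ Nat.card Q = (2 ^ n) ^ 2 ∧
      IsSuzukiTwoGroup Q ∧
      ∃ s ∈ II G a, ∃ r ∈ Q, t * s * t = r⁻¹ * t * r ∧ r * r = s := by
  have hK : ∀ k ∈ KK a t, ∀ l ∈ KK a t, k * l ∈ KK a t :=
    fun k hk l hl => hD _ (Subgroup.mul_mem _ hk.1 hl.1)
  have hP := isSuzukiTwoGroup hS hK (QZ_le hS) le_rfl
    (fun k hk x hx => conj_mem_Q hS (KS_le_DD hk).1 hx) h2 hna hq
  obtain ⟨-, -, hcard, hexp⟩ := Cfsg.Agent.S1138.result hP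
  rw [card_center_eq hS (QZ_le hS) le_rfl hP] at hcard
  have h4 : ∀ x ∈ Q, x ^ 4 = 1 := fun x hx =>
    congrArg Subtype.val (hexp ▸ Monoid.pow_exponent_eq_one (⟨x, hx⟩ : Q))
  obtain ⟨n, hn1, hn⟩ := exists_card_QZ hS
  obtain ⟨s, hs, r, hr, e⟩ := exists_structure_eq hS
  rcases struct_dichotomy hS hs hr e (by rw [← h4 r hr]; simp only [pow_succ, pow_zero]; group)
    with rfl | ⟨hrr, h5⟩
  · exfalso
    rcases hcard with hc | hc
    · have h1 := Subgroup.card_subgroup_dvd_card (bru t (QZ G a) (KS a t))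
      have hDc : Nat.card (DD a t) = Nat.card (KS a t) :=
        Nat.card_congr (Equiv.subtypeEquivRight fun x => ⟨fun h => mem_KS_of_mem_KK (hD x h),
          fun h => KS_le_DD h⟩)
      rw [(bruData_QZ hS hK hs e).card_bru hS, card_G hS, hc, hDc] at h1
      have hqe : 2 ∣ Nat.card (QZ G a) := by rw [hn]; exact dvd_pow_self 2 (by omega)
      generalize Nat.card (QZ G a) = q at *
      have h3 : q + 1 ∣ q * (q ^ 2 + 1) := by
        refine Nat.dvd_of_mul_dvd_mul_left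
          (Nat.mul_pos (show 0 < q by omega) (Nat.card_pos (α := KS a t))) ?_
        convert h1 using 1; ring
      have h6 : q + 1 ∣ 2 := by
        have h7 : ((q : ℤ) + 1) ∣ q * (q ^ 2 + 1) := by exact_mod_cast h3
        have h8 : ((q : ℤ) + 1) ∣ 2 := by
          have : (2 : ℤ) = (q + 1) * (q ^ 2 - q + 2) - q * (q ^ 2 + 1) := by ring
          rw [this]; exact dvd_sub (Dvd.intro _ rfl) h7
        exact_mod_cast h8
      have := Nat.le_of_dvd (by norm_num) h6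
      omega
    · exact card_ne_cube hS hD h2 h4 hs e hq hc
  · have hodd := odd_of_sq hS hK hs hr e hrr hn
    refine ⟨n, hodd, ?_, hn, ?_, hP, s, hs, r, hr, e, hrr⟩
    · by_contra h
      have : n = 1 := by omega
      rw [this] at hn; omega
    · rw [hn] at hcard
      exact hcard.resolve_right (card_ne_cube_of_five hS hs h5 hodd)

end setup

/-- A Zassenhaus group with a regular normal 2-subgroup in the point stabiliser is a rank-one
set-up with `D = K`. -/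
theorem setup_of_zass [Finite G] [Finite Ω] (hZ : IsZassenhausGroup G Ω) {a b : Ω} (hab : a ≠ b)
    {U : Subgroup G} (hUle : U ≤ stabilizer G a)
    (hreg : ∀ c d : Ω, c ≠ a → d ≠ a → ∃! u : U, (u : G) • c = d) (hU2 : IsPGroup 2 U) :
    ∃ t : G, t • a = b ∧ IsRankOneSetup G Ω a t U ∧ (∀ d ∈ DD a t, d ∈ KK a t) ∧
      2 < Nat.card (QZ G a) := by
  have h := CL.Zass.pre_of_zass hZ
  have hF := h.isKer_of_regular hUle hreg
  obtain ⟨t, ht, hta, htb⟩ := h.exists_swap hab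
  have hev : Even (Nat.card U) := by
    obtain ⟨n, hn⟩ := IsPGroup.iff_card.1 hU2
    rcases n with _ | n
    · exact absurd (Subgroup.eq_bot_of_card_eq U hn) (hF.ne_bot h)
    · rw [hn, pow_succ]; exact even_two.mul_left _
  have hodd : Odd (Nat.card Ω) := by rw [← hF.card_add_one h]; exact hev.add_one
  subst hta
  have hS : IsRankOneSetup G Ω a t U := by
    refine ⟨h.multTrans, ht, fun e => hab (by rw [e, one_smul]), fun e => hab e.symm, hUle,
      fun k hk x hx => hF.conj_mem hk hx, ?_, ?_, hev, h.odd_st2_of_odd hab hodd⟩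
    · rw [eq_bot_iff]
      exact fun x hx => hF.eq_one hx.1 hab.symm hx.2
    · refine le_antisymm (sup_le hUle inf_le_left) fun g hg => ?_
      obtain ⟨u, hu, x, hx, rfl⟩ := hF.decomp h hab hg
      exact Subgroup.mul_mem_sup hu hx
  have hD : ∀ d ∈ DD a t, d ∈ KK a t := fun d hd => ⟨hd, h.inverts_of_odd hodd hab ht rfl htb d hd⟩
  refine ⟨t, rfl, hS, hD, ?_⟩
  have h1 := CL.Zass.one_lt_card_st2_of_zass hZ hab
  have hDc : Nat.card (DD a t) = Nat.card (KK a t) :=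
    Nat.card_congr (Equiv.subtypeEquivRight fun x => ⟨hD x, fun h => h.1⟩)
  rw [card_QZ_eq hS, ← hDc]
  exact Nat.succ_lt_succ h1

end CL.ROR
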