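import Cfsg.Agent.Base
import Cfsg.Agent.RankOneRec.U3Crd
import Cfsg.Agent.RankOneRec.ZT
import Cfsg.Agent.RankOne.Concl
import Cfsg.Agent.Suz2.Equiv
import Cfsg.Agent.Sz.Bridge

/-!
Recognition of `Sz(q)`: if `Q` is a non-abelian 2-group of order `q²`, then `⟨Q, t⟩ ≅ Sz(q)`.
-/

set_option autoImplicit false
set_option linter.unusedSectionVars false

namespace CL.ROR

open Cfsg MulAction CL.RankOne

section field
variable {F : Type} [Field F] [CharP F 2]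

theorem sz_elim {u v e d μ ν μ' ν' : F} (h0 : e * d = 1 + u + v) (hb : μ * ν = 1 + v)
    (hb' : μ' * ν' = v) (S1 : (1 + u) ^ 2 * (1 + e) = μ * u * (u + e))
    (T1 : (1 + v) ^ 2 * (1 + d) = ν * v * (v + d))
    (S2 : u ^ 2 * (1 + e) = μ' * (u + 1) * (u + 1 + e))
    (T2 : v ^ 2 * (1 + d) = ν' * (v + 1) * (v + 1 + d)) (hv : v ≠ 0) (hv1 : 1 + v ≠ 0)
    (huv : u + v ≠ 0) : e * (1 + u + v) = 1 + v + u ^ 2 ∧ d * (1 + v + u ^ 2) = (1 + u + v) ^ 2 := by
  have E1 : u * v * ((u + e) * (v + d)) = (1 + u) ^ 2 * (1 + v) * ((1 + e) * (1 + d)) := by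
    apply mul_left_cancel₀ hv1
    linear_combination (-(u * v * (u + e) * (v + d))) * hb - ((1 + v) ^ 2 * (1 + d)) * S1 -
      (μ * u * (u + e)) * T1
  have E2 : (u + 1) * (v + 1) * ((u + 1 + e) * (v + 1 + d)) = u ^ 2 * v * ((1 + e) * (1 + d)) := by
    apply mul_left_cancel₀ hv
    linear_combination (-((u + 1) * (v + 1) * (u + 1 + e) * (v + 1 + d))) * hb' -
      (v ^ 2 * (1 + d)) * S2 - (μ' * (u + 1) * (u + 1 + e)) * T2
  have : e * (1 + u + v) = 1 + v + u ^ 2 := by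
    apply mul_left_cancel₀ huv
    grind
  exact ⟨this, by grind⟩

theorem sz_elim1 {u v w d : F} (h1 : d * (1 + v + u ^ 2) = (1 + u + v) ^ 2)
    (h2 : d * (1 + v + w) = 1 + w + v ^ 2) (hv : v ≠ 0) (hv1 : 1 + v ≠ 0) : w = u ^ 2 := by
  apply mul_left_cancel₀ (mul_ne_zero hv hv1)
  have : (1 + u + v) ^ 2 * (1 + v + w) = (1 + w + v ^ 2) * (1 + v + u ^ 2) := by
    rw [← h1, ← h2]; ring
  clear h1 h2 hv hv1
  grind

/-- The functional equation forces `θ² = 2` or `θ⁻² = 2`. -/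
theorem sz_theta [Finite F] (θ : F ≃+* F) (c : F) (hN : Function.Injective fun x => x * θ x)
    (h : ∀ u : F, u ≠ 0 → u ≠ 1 → ∃ e μ, e * θ e = 1 + u + θ u ∧
      μ * θ μ = 1 + (c + 1) * u + c * θ u ∧ μ ≠ 0 ∧ (1 + u) ^ 2 * (1 + e) = μ * u * (u + e)) :
    (c = 1 ∧ ∀ u, θ (θ u) = u ^ 2) ∨ (c = 0 ∧ ∀ u, θ (θ u) ^ 2 = u) := by
  have h2 := CharTwo.two_eq_zero (R := F)
  have ne1 : ∀ {u : F}, u ≠ 1 → 1 + u ≠ 0 := fun hu h => hu (by grind)
  have hfix : ∀ u, θ u = u → u = 0 ∨ u = 1 := by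
    intro u hu
    by_contra hh
    rw [not_or] at hh
    obtain ⟨e, μ, h1, -, h3, h4⟩ := h u hh.1 hh.2
    have he : e = 1 := hN (by simp only [h1, hu, map_one]; grind)
    subst he
    exact mul_ne_zero (mul_ne_zero h3 hh.1) (add_comm 1 u ▸ ne1 hh.2) (by grind)
  have hc : c = 0 ∨ c = 1 := by
    by_contra hh
    rw [not_or] at hh
    have hinj : Function.Injective fun u => θ u / u := by
      intro u u' e
      by_cases hu : u = 0
      · have e : θ u / u = θ u' / u' := e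
        rw [hu, div_zero, eq_comm, div_eq_zero_iff, map_eq_zero, or_self] at e
        rw [hu, e]
      by_cases hu' : u' = 0
      · simp [hu, hu'] at e
      have e : θ u / u = θ u' / u' := e
      have := map_ne_zero θ |>.2 hu'
      rcases hfix (u / u') (by rw [map_div₀]; field_simp at e ⊢; grind) with h | h
      · exact absurd h (div_ne_zero hu hu')
      · exact (div_eq_one_iff_eq hu').1 h
    obtain ⟨u, hu⟩ := Finite.surjective_of_injective hinj ((c + 1) / c)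
    have hu : θ u / u = (c + 1) / c := hu
    have hc1 := ne1 hh.2
    have hc0 := hh.1
    have hu0 : u ≠ 0 := by
      rintro rfl
      rw [div_zero, eq_comm, div_eq_zero_iff, add_comm] at hu
      exact hu.elim hc1 hc0
    field_simp at hu
    obtain ⟨e, μ, -, h1, h3, -⟩ := h (u + 1) (fun h => by
      have : u = 1 := by grind
      rw [this, map_one] at hu
      grind) (by simpa using hu0)
    refine mul_ne_zero h3 ((map_ne_zero θ).2 h3) ?_
    rw [h1, map_add, map_one]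
    grind
  have key : ∀ u : F, u ≠ 0 → u ≠ 1 → ∃ e μ μ', e * θ e = 1 + u + θ u ∧
      μ * θ μ = 1 + (c + 1) * u + c * θ u ∧ μ' * θ μ' = (c + 1) * u + c * θ u ∧
      (1 + u) ^ 2 * (1 + e) = μ * u * (u + e) ∧
      (1 + θ u) ^ 2 * (1 + θ e) = θ μ * θ u * (θ u + θ e) ∧
      u ^ 2 * (1 + e) = μ' * (u + 1) * (u + 1 + e) ∧
      θ u ^ 2 * (1 + θ e) = θ μ' * (θ u + 1) * (θ u + 1 + θ e) := by
    intro u h0 h1
    obtain ⟨e, μ, k1, k2, -, k4⟩ := h u h0 h1
    obtain ⟨e', μ', l1, l2, -, l4⟩ := h (u + 1) (add_comm 1 u ▸ ne1 h1) (by simpa using h0)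
    obtain rfl : e = e' := hN (by simp only [k1, l1, map_add, map_one]; grind)
    have l5 : u ^ 2 * (1 + e) = μ' * (u + 1) * (u + 1 + e) := by grind
    refine ⟨e, μ, μ', k1, k2, by rw [l2, map_add, map_one]; grind, k4, ?_, l5, ?_⟩
    · simpa using congrArg θ k4
    · simpa using congrArg θ l5
  have aux : ∀ u : F, u ≠ 0 → u ≠ 1 → θ u ≠ 0 ∧ 1 + θ u ≠ 0 ∧ u + θ u ≠ 0 := fun u h0 h1 =>
    ⟨(map_ne_zero θ).2 h0, ne1 (by simpa using h1), fun h => by
      rcases hfix u (by grind) with h | h <;> contradiction⟩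
  rcases hc with rfl | rfl
  · refine Or.inr ⟨rfl, fun u => ?_⟩
    by_cases h0 : u = 0
    · simp [h0]
    by_cases h1 : u = 1
    · simp [h1]
    obtain ⟨e, μ, μ', k1, k2, k3, k4, k5, k6, k7⟩ := key u h0 h1
    obtain ⟨a1, a2, a3⟩ := aux u h0 h1
    obtain ⟨b1, b2⟩ := sz_elim (u := θ u) (v := u) (e := θ e) (d := e) (μ := θ μ) (ν := μ)
      (μ' := θ μ') (ν' := μ') (by grind) (by grind) (by grind) k5 k4 k7 k6 h0 (ne1 h1)
      (add_comm u _ ▸ a3)
    have b3 := congrArg θ b2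
    simp only [map_mul, map_add, map_pow, map_one] at b3
    exact (sz_elim1 b3 b1 a1 a2).symm
  · refine Or.inl ⟨rfl, fun u => ?_⟩
    by_cases h0 : u = 0
    · simp [h0]
    by_cases h1 : u = 1
    · simp [h1]
    obtain ⟨e, μ, μ', k1, k2, k3, k4, k5, k6, k7⟩ := key u h0 h1
    obtain ⟨a1, a2, a3⟩ := aux u h0 h1
    obtain ⟨b1, b2⟩ := sz_elim k1 (by grind) (by grind) k4 k5 k6 k7 a1 a2 a3
    have b3 := congrArg θ b1
    simp only [map_mul, map_add, map_pow, map_one] at b3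
    exact sz_elim1 b2 b3 a1 a2

end field

variable {G Ω : Type*} [Group G] [MulAction G Ω] {a : Ω} {t : G} {Q : Subgroup G}
  {F : Type} [Field F] {θ : F ≃+* F} {E : F → F → G} {c : F}

/-- Coordinates on `Q` in the Suzuki case. -/
structure SD (a : Ω) (t : G) (Q : Subgroup G) (θ : F ≃+* F) (E : F → F → G) (c : F) : Prop where
  hS : IsRankOneSetup G Ω a t Q
  mul : ∀ x y x' y', E x y * E x' y' = E (x + x') (y + y' + θ x * x')
  mem : ∀ x y, E x y ∈ Q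
  surj : ∀ g ∈ Q, ∃ x y, g = E x y
  inj : ∀ {x y x' y'}, E x y = E x' y' → x = x' ∧ y = y'
  scal : ∀ κ : F, κ ≠ 0 → ∃ k ∈ KK a t, ∀ x y, k * E x y * k⁻¹ = E (κ * x) (κ * θ κ * y)
  str : t * E 0 1 * t = (E 1 c)⁻¹ * t * E 1 c
  ninj : Function.Injective fun x => x * θ x

namespace SD
variable [CharP F 2] (D : SD a t Q θ E c)
include D

omit [CharP F 2] in
theorem zero : E 0 0 = 1 := by
  have := D.mul 0 0 0 0
  simpa using this

theorem inv (x y : F) : (E x y)⁻¹ = E x (y + θ x * x) := by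
  rw [inv_eq_iff_mul_eq_one, D.mul, ← D.zero]
  congr 1 <;> grind

omit [CharP F 2] in
theorem scal' {k : G} {κ : F} (hκ : κ ≠ 0)
    (hk : ∀ x y, k * E x y * k⁻¹ = E (κ * x) (κ * θ κ * y)) (x y : F) :
    k⁻¹ * E x y * k = E (κ⁻¹ * x) ((κ * θ κ)⁻¹ * y) := by
  have := (map_ne_zero θ).2 hκ
  rw [show E x y = k * E (κ⁻¹ * x) ((κ * θ κ)⁻¹ * y) * k⁻¹ by
    rw [hk]; congr 1 <;> field_simp]
  group

/-- The change of coordinates replacing `θ` by `θ⁻¹`. -/
theorem flip : SD a t Q θ.symm (fun x y => E (θ.symm x) (y + θ.symm x * x)) (c + 1) where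
  hS := D.hS
  mul x y x' y' := by
    simp only [D.mul, map_add, RingEquiv.apply_symm_apply]
    congr 1; grind
  mem x y := D.mem _ _
  surj g hg := by
    obtain ⟨x, y, rfl⟩ := D.surj g hg
    refine ⟨θ x, y + x * θ x, ?_⟩
    simp only [RingEquiv.symm_apply_apply]
    congr 1; grind
  inj h := by
    obtain ⟨h1, h2⟩ := D.inj h
    obtain rfl := θ.symm.injective h1
    exact ⟨rfl, add_right_cancel h2⟩
  scal κ hκ := by
    obtain ⟨k, hk, h⟩ := D.scal (θ.symm κ) ((map_ne_zero _).2 hκ)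
    refine ⟨k, hk, fun x y => ?_⟩
    simp only [h, map_mul, RingEquiv.apply_symm_apply]
    congr 1; ring
  str := by
    simp only [map_zero, map_one, mul_zero, add_zero, mul_one, add_assoc,
      CharTwo.add_self_eq_zero, D.str]
  ninj x y h := by
    apply θ.symm.injective
    apply D.ninj
    simp only [RingEquiv.apply_symm_apply] at h ⊢
    rw [mul_comm, h, mul_comm]

theorem canZ {k : G} (hkK : k ∈ KK a t) {κ : F} (hκ : κ ≠ 0)
    (hk : ∀ x y, k * E x y * k⁻¹ = E (κ * x) (κ * θ κ * y)) :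
    Can a t Q (E 0 (κ * θ κ)⁻¹) (E κ (κ * θ κ * (c + 1))) (k * k) (E κ (κ * θ κ * c)) := by
  have := (can_s (a := a) (D.mem 1 c) D.str).conjK D.hS hkK
  rwa [D.scal' hκ hk, D.inv, hk, hk, mul_zero, mul_one, mul_one, mul_one, map_one, mul_one] at this

theorem can_z {κ l : F} (hκ : κ ≠ 0) (hl : l ≠ 0) (h : (l * θ l)⁻¹ = 1 + (κ * θ κ)⁻¹) :
    ∃ h g₂ f₂, Can a t Q (E (1 + κ) (c + κ * θ κ * (c + 1) + κ)) (E (1 + l) g₂) h
      (E ((l + κ) / κ ^ 2) f₂) := by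
  obtain ⟨k, hkK, hk⟩ := D.scal κ hκ
  obtain ⟨k', hkK', hk'⟩ := D.scal l hl
  have cx := can_s (a := a) (D.mem 1 c) D.str
  have cy := D.canZ hkK hκ hk
  have cw := D.canZ hkK' hl hk'
  have e1 : E 0 1 * E 0 (κ * θ κ)⁻¹ = E 0 (l * θ l)⁻¹ := by rw [D.mul, h]; simp
  obtain ⟨g, h, f, cz⟩ := exists_can D.hS (Q.mul_mem cx.f_mem cy.g_mem)
    (cx.mul_ne_one D.hS cy (e1 ▸ D.mem _ _) (e1 ▸ cw.ne_one D.hS))
  have := cx.mul D.hS cy cz
  rw [e1] at this
  obtain ⟨h1, -, h3⟩ := this.unique D.hS cw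
  obtain ⟨g₁, g₂, rfl⟩ := D.surj g cz.g_mem
  obtain ⟨f₁, f₂, rfl⟩ := D.surj f cz.f_mem
  rw [one_mul, inv_one, mul_one, D.inv, D.mul] at h1
  have h4 : t * (k * k) * t = k⁻¹ * k⁻¹ := by
    rw [← t_conj_of_mem_KK D.hS hkK]; simp only [mul_assoc, tt D.hS]
  rw [h4, show (k⁻¹ * k⁻¹)⁻¹ * E f₁ f₂ * (k⁻¹ * k⁻¹) = k * (k * E f₁ f₂ * k⁻¹) * k⁻¹ by simp [mul_assoc],
    hk, hk, D.mul] at h3
  have h5 := (D.inj h1).1
  have h6 := (D.inj h3).1
  rw [D.mul, map_one, one_mul] at cz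
  obtain rfl : g₁ = 1 + l := by grind
  obtain rfl : f₁ = (l + κ) / κ ^ 2 := by field_simp; grind
  exact ⟨_, _, _, cz⟩

theorem star {μ g₁ g₂ f₁ f₂ : F} (hμ : μ ≠ 0) {h : G}
    (cx : Can a t Q (E 1 (c + μ * θ μ)) (E g₁ g₂) h (E f₁ f₂)) : g₁ = 1 + μ * f₁ := by
  obtain ⟨k, hkK, hk⟩ := D.scal μ⁻¹ (inv_ne_zero hμ)
  have hμ' := (map_ne_zero θ).2 hμ
  have cr := can_r D.hS (D.mem 0 1) (D.mem 1 c) D.str
  have cy := D.canZ hkK (inv_ne_zero hμ) hk
  have cz := (cx.inv D.hS).conjK' D.hS hkK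
  have e1 : k * (E 1 (c + μ * θ μ))⁻¹ * k⁻¹ = E 0 1 * E μ⁻¹ (μ⁻¹ * θ μ⁻¹ * (c + 1)) := by
    rw [D.inv, hk, D.mul, map_inv₀]
    congr 1
    · simp
    · simp only [map_one, map_zero]; field_simp; ring
  rw [e1] at cz
  have := cr.mul D.hS cy cz
  rw [D.mul, add_zero, mul_zero, add_zero, map_inv₀, ← mul_inv, inv_inv] at this
  have h1 := (cx.unique D.hS this).1
  rw [one_mul, inv_one, mul_one, D.inv, D.scal' (inv_ne_zero hμ) hk, D.mul, inv_inv] at h1
  exact (D.inj h1).1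

theorem nsurj [Finite F] (b : F) : ∃ x, x * θ x = b := Finite.surjective_of_injective D.ninj b

theorem functional [Finite F] (u : F) (h0 : u ≠ 0) (h1 : u ≠ 1) : ∃ e μ, e * θ e = 1 + u + θ u ∧
    μ * θ μ = 1 + (c + 1) * u + c * θ u ∧ μ ≠ 0 ∧ (1 + u) ^ 2 * (1 + e) = μ * u * (u + e) := by
  have ne1 : ∀ {u : F}, u ≠ 1 → 1 + u ≠ 0 := fun hu h => hu (by grind)
  have h2 := ne1 h1
  have h3 : 1 + θ u ≠ 0 := ne1 (by simpa using h1)
  have h4 := (map_ne_zero θ).2 h0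
  obtain ⟨e, he⟩ := D.nsurj (1 + u + θ u)
  obtain ⟨μ, hμ⟩ := D.nsurj (1 + (c + 1) * u + c * θ u)
  have he0 : e ≠ 0 := by
    rintro rfl
    have : 1 + u = u := D.ninj (by simp only [map_add, map_one]; grind)
    simp at this
  have he0' := (map_ne_zero θ).2 he0
  obtain ⟨h, g₂, f₂, cz⟩ := D.can_z (κ := (1 + u) / u) (l := (1 + u) / e) (div_ne_zero h2 h0)
    (div_ne_zero h2 he0) (by
      simp only [map_div₀, map_add, map_one]
      field_simp
      grind)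
  obtain ⟨m, hmK, hm⟩ := D.scal u h0
  have cx := cz.conjK' D.hS hmK
  rw [hm, D.scal' h0 hm, D.scal' h0 hm] at cx
  have e1 : u * (1 + (1 + u) / u) = 1 := by field_simp; grind
  have e2 : u * θ u * (c + (1 + u) / u * θ ((1 + u) / u) * (c + 1) + (1 + u) / u) =
      c + μ * θ μ := by
    simp only [map_div₀, map_add, map_one, hμ]
    field_simp
    grind
  rw [e1, e2] at cx
  have hμ0 : μ ≠ 0 := by
    rintro rfl
    rw [zero_mul, add_zero] at cx
    have := (D.inj (cx.unique D.hS (can_r D.hS (D.mem 0 1) (D.mem 1 c) D.str)).2.2).1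
    field_simp at this
    obtain rfl : e = u := by grind
    exact mul_ne_zero h2 h3 (by grind)
  refine ⟨e, μ, he, hμ, hμ0, ?_⟩
  have := D.star hμ0 cx
  field_simp at this
  grind

end SD

theorem sz_struct {m : ℕ} [Fintype F] (C : CL.Sz.Ctx F m) :
    C.W * C.U 1 1 * C.W = C.U 1 1 * C.W * C.U 0 1 := by
  have := C.charP
  apply CL.Sz.Ctx.mat_inj
  simp only [CL.Sz.Ctx.mat_mul, C.mat_U, C.mat_W, CL.Sz.Ctx.Um, C.fo_eq, suzukiForm]
  ext i j
  fin_cases i <;> fin_cases j <;> simp [Matrix.mul_apply, Fin.sum_univ_four] <;> grind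

open CL.Sz in
/-- The action of `Q`, `K` and `t` is that of `Sz(q)` on the ovoid. -/
theorem SD.exists_lift [Finite G] [Fintype F] {m : ℕ} (C : Ctx F m) (D : SD a t Q θ E 1)
    (hθ : ∀ x, θ x = C.θ x) : ∃ j : suzukiOvoid F m → Ω, Function.Bijective j ∧
      j (inf F m) = a ∧ (∀ x y, j (pt m x y) = E x y • t • a) ∧
      (∀ x y p, E x y • j p = j (C.U x y • p)) ∧ (∀ p, t • j p = j (C.W • p)) ∧
      ∀ l : Fˣ, ∃ k ∈ KK a t, ∀ p, k • j p = j (C.H l • p) := by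
  have := C.charP
  have hS := D.hS
  let j : suzukiOvoid F m → Ω := fun p =>
    ((ovoidEquiv F m).symm p).elim a (fun q => E q.1 q.2 • t • a)
  have j1 : j (inf F m) = a := by
    change ((ovoidEquiv F m).symm (ovoidEquiv F m none)).elim _ _ = _
    rw [Equiv.symm_apply_apply]; rfl
  have j2 : ∀ x y, j (pt m x y) = E x y • t • a := fun x y => by
    change ((ovoidEquiv F m).symm (ovoidEquiv F m (some (x, y)))).elim _ _ = _
    rw [Equiv.symm_apply_apply]; rfl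
  have hne : ∀ x y, E x y • t • a ≠ a := fun x y =>
    smul_ne_of_smul_eq hS (smul_of_mem_Q hS (D.mem x y)) (ta_ne hS)
  have hU : ∀ x y p, E x y • j p = j (C.U x y • p) := by
    intro x y p
    rcases eq_inf_or_pt p with rfl | ⟨x', y', rfl⟩
    · rw [C.U_smul_inf, j1, smul_of_mem_Q hS (D.mem x y)]
    · rw [C.U_smul_pt, j2, j2, ← mul_smul, D.mul, hθ, add_comm x, add_comm y]
  have hH : ∀ l : Fˣ, ∃ k ∈ KK a t, ∀ p, k • j p = j (C.H l • p) := by
    intro l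
    obtain ⟨k, hk, h⟩ := D.scal (C.θ l) (C.θ_unit_ne l)
    refine ⟨k, hk, fun p => ?_⟩
    rcases eq_inf_or_pt p with rfl | ⟨x, y, rfl⟩
    · rw [C.H_smul_inf, j1, hk.1.1]
    · rw [C.H_smul_pt, j2, j2, mul_comm _ (C.θ l), ← C.θθ, ← hθ (C.θ l), ← h, mul_smul, mul_smul,
        (Subgroup.inv_mem _ hk.1).2]
  let A : Set (suzukiOvoid F m) := {p | t • j p = j (C.W • p)}
  have aW : ∀ p ∈ A, C.W • p ∈ A := fun p hp => by
    have hp : t • j p = j (C.W • p) := hp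
    change t • j (C.W • p) = j (C.W • C.W • p)
    rw [← hp, tta hS, ← mul_smul, C.W_mul_W, one_smul]
  have aH : ∀ l : Fˣ, ∀ p ∈ A, C.H l • p ∈ A := fun l p hp => by
    have hp : t • j p = j (C.W • p) := hp
    obtain ⟨k, hk, h⟩ := hH l
    change t • j (C.H l • p) = j (C.W • C.H l • p)
    rw [← h, ← mul_smul C.W, C.W_mul_H, mul_smul, ← C.H_inv, ← smul_left_cancel_iff k, h (_ • _),
      smul_inv_smul, ← hp, smul_smul, smul_smul]
    congr 1
    calc k * t * k = k * (t * k * t) * t := by simp only [mul_assoc, hS.mul_self, mul_one]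
      _ = t := by rw [t_conj_of_mem_KK hS hk, mul_inv_cancel, one_mul]
  have a0 : pt m (0 : F) 0 ∈ A := by
    change t • j _ = j _
    rw [C.W_smul_zero, j1, j2, D.zero, one_smul, tta hS]
  have aS : pt m (0 : F) 1 ∈ A := by
    change t • j _ = j _
    have h1 : fo m (0 : F) 1 = 1 := by simp [C.fo_eq]
    rw [C.W_smul_pt (by simp [h1]), h1, j2, j2, (can_s (a := a) (D.mem 1 1) D.str).smul hS, D.inv]
    simp [CharTwo.add_self_eq_zero]
  have aZ : ∀ b, pt m (0 : F) b ∈ A := fun b => by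
    by_cases hb : b = 0
    · rwa [hb]
    obtain ⟨κ, hκ⟩ := D.nsurj b
    obtain ⟨l, rfl⟩ := C.θ_surj κ
    have hl : l ≠ 0 := by rintro rfl; simp [← hκ] at hb
    have := aH (Units.mk0 l hl) _ aS
    rwa [C.H_smul_pt, mul_zero, mul_one, Units.val_mk0, mul_comm, ← C.θθ, ← hθ (C.θ l), hκ] at this
  have aR : ∀ b, C.U 1 1 • C.W • pt m (0 : F) b ∈ A := fun b => by
    change t • j _ = j _
    have h1 : t • j _ = j _ := aZ b
    have h2 : t • j _ = j _ := aZ (b + 1)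
    have h3 : C.U 0 1 • pt m (0 : F) b = pt m 0 (b + 1) := by simp [C.U_smul_pt]
    have h4 : t * E 1 1 * t = E 1 1 * t * E 0 1 := by
      have := D.str
      calc t * E 1 1 * t = E 1 1 * ((E 1 1)⁻¹ * t * E 1 1) * t := by group
        _ = _ := by rw [← this]; simp only [mul_assoc, hS.mul_self, mul_one]
    rw [← hU, ← h1, smul_smul C.W, smul_smul _ C.W, sz_struct, mul_smul, mul_smul, h3, ← hU, ← h2,
      ← h3, ← hU, smul_smul, smul_smul, h4, mul_smul, mul_smul]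
  have aX : ∀ x : F, x ≠ 0 → ∃ b, C.W • pt m (0 : F) b = pt m x 0 := fun x hx => by
    have h1 : fo m (0 : F) (x * C.θ x)⁻¹ = (C.θ x * x ^ 2)⁻¹ := by simp [C.fo_eq, C.θθ]
    have h2 := C.θ_eq_zero.not.2 hx
    refine ⟨(x * C.θ x)⁻¹, ?_⟩
    rw [C.W_smul_pt (by rw [h1]; positivity), h1, zero_div]
    congr 1; field_simp
  have hA : ∀ p, p ∈ A := by
    intro p
    rcases eq_inf_or_pt p with rfl | ⟨x, y, rfl⟩
    · rw [← C.W_smul_zero]; exact aW _ a0
    by_cases hx : x = 0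
    · rw [hx]; exact aZ y
    by_cases hy : y = 0
    · obtain ⟨b, hb⟩ := aX x hx
      rw [hy, ← hb]; exact aW _ (aZ b)
    have hd : ∀ τ : F, pt m τ τ ∈ A := fun τ => by
      by_cases hτ : τ + 1 = 0
      · obtain rfl : τ = 1 := by grind
        change t • j _ = j _
        have h1 : fo m (1 : F) 1 = 1 := by simp [C.fo_eq, CharTwo.add_self_eq_zero]
        rw [C.W_smul_pt (by simp [h1]), h1, j2, j2,
          (can_r hS (D.mem 0 1) (D.mem 1 1) D.str).smul hS, div_one]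
      · obtain ⟨b, hb⟩ := aX _ hτ
        have := aR b
        rw [hb, C.U_smul_pt] at this
        convert this using 2 <;> grind
    obtain ⟨l', hl'⟩ := C.θ_surj (y / x)
    obtain ⟨l, rfl⟩ := C.θ_surj l'
    rw [C.θθ] at hl'
    have hl : l ≠ 0 := by rintro rfl; simp [eq_comm, hx, hy] at hl'
    have hl2 := C.θ_eq_zero.not.2 hl
    have := aH (Units.mk0 l hl) _ (hd (x / C.θ l))
    rw [C.H_smul_pt, Units.val_mk0, hl'] at this
    convert this using 2 <;> field_simp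
  refine ⟨j, ⟨?_, ?_⟩, j1, j2, hU, hA, hH⟩
  · intro p p' e
    rcases eq_inf_or_pt p with rfl | ⟨x, y, rfl⟩ <;> rcases eq_inf_or_pt p' with rfl | ⟨x', y', rfl⟩
    · rfl
    · rw [j1, j2] at e; exact absurd e.symm (hne _ _)
    · rw [j1, j2] at e; exact absurd e (hne _ _)
    · rw [j2, j2] at e
      exact pt_inj.2 (D.inj (eq_of_mem_Q_of_smul_eq hS (D.mem _ _) (D.mem _ _) (ta_ne hS) e))
  · intro b
    by_cases hb : b = a
    · exact ⟨_, j1.trans hb.symm⟩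
    · obtain ⟨g, hg, h⟩ := exists_smul_ta_eq hS hb
      obtain ⟨x, y, rfl⟩ := D.surj g hg
      exact ⟨_, (j2 x y).trans h⟩

open CL.Sz in
theorem SD.equiv_Sz [Finite G] [FaithfulSMul G Ω] [Fintype F] {m : ℕ} (C : Ctx F m)
    (D : SD a t Q θ E 1) (hθ : ∀ x, θ x = C.θ x) : Nonempty (LL Q t ≃* Cfsg.Sz F m) := by
  obtain ⟨j, hj, -, -, hU, hW, hH⟩ := D.exists_lift C hθ
  have := C.faithful
  obtain ⟨φ, -⟩ := equiv_of_lift (M := Cfsg.Sz F m) j hj.1 (LL Q t) (by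
      have : LL Q t ≤ liftSub G (Cfsg.Sz F m) j := by
        refine LL_le (fun g hg => ?_) ⟨_, hW⟩
        obtain ⟨x, y, rfl⟩ := D.surj g hg
        exact ⟨_, hU x y⟩
      exact fun l hl => this hl)
    (by
      have : liftedSub (Cfsg.Sz F m) j (LL Q t) = ⊤ := by
        refine C.eq_top_of_gens (fun x y => ⟨_, Q_le_LL (D.mem x y), hU x y⟩) (fun l => ?_)
          ⟨t, mem_LL_t, hW⟩
        obtain ⟨k, hk, h⟩ := hH l
        refine ⟨k, ?_, h⟩
        have := mul_mem (mem_LL_of_invol D.hS (K_mul_t_mul_self D.hS hk)) (mem_LL_t (Q := Q))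
        rwa [mul_assoc, D.hS.mul_self, mul_one] at this
      intro g
      have hg : g ∈ liftedSub (Cfsg.Sz F m) j (LL Q t) := by rw [this]; trivial
      exact hg)
    (fun l _ hl => FaithfulSMul.eq_of_smul_eq_smul (α := Ω) fun c => by
      obtain ⟨x, rfl⟩ := hj.2 c
      rw [hl, one_smul])
  exact ⟨φ⟩

theorem theta_eq [Fintype F] {m : ℕ} (C : CL.Sz.Ctx F m) (ho : Odd (orderOf θ))
    (h : ∀ x, θ (θ x) = x ^ 2) (x : F) : θ x = C.θ x := by
  have h1 : ∀ k : ℕ, ∀ x, (θ ^ (2 * k)) x = x ^ 2 ^ k := by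
    intro k
    induction k with
    | zero => simp
    | succ k ih =>
      intro x
      rw [show 2 * (k + 1) = 2 * k + 1 + 1 by ring, pow_succ, pow_succ, RingAut.mul_apply,
        RingAut.mul_apply, ih, h, ← pow_mul, pow_succ']
  have h2 : θ ^ (2 * (2 * m + 1)) = 1 := by
    ext x
    rw [h1, ← C.hF, FiniteField.pow_card]; rfl
  have h3 : θ ^ (2 * m + 1) = 1 := orderOf_dvd_iff_pow_eq_one.1
    ((Odd.coprime_two_right ho).dvd_of_dvd_mul_left (orderOf_dvd_iff_pow_eq_one.2 h2))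
  rw [C.θ_eq, ← h1, show 2 * (m + 1) = 2 * m + 1 + 1 by ring, pow_succ, h3, one_mul]

section main
variable (hS : IsRankOneSetup G Ω a t Q) [Finite G]
include hS

/-- A strongly real element fixing a point is conjugate into `K`. -/
theorem strongly_real_conj_K {u v : G} (hu : u * u = 1) (hv : v * v = 1)
    (hx : (u * v) * (u * v) ≠ 1) {b : Ω} (hb : (u * v) • b = b) :
    ∃ g : G, g * (u * v) * g⁻¹ ∈ KK a t := by
  have hvb : v • b = u • b := by
    rw [← smul_left_cancel_iff u, ← mul_smul, hb, ← mul_smul, hu, one_smul]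
  have hne : b ≠ u • b := fun h => hx (mul_mul_self_of_fixed hS hu hv h.symm (hvb.trans h.symm))
  have hc : (u * v) • u • b = u • b := by
    rw [mul_smul, ← hvb, ← mul_smul v, hv, one_smul, hvb]
  obtain ⟨g, g1, g2⟩ := two_trans hS hne (ta_ne hS).symm
  have hk := mul_t_mem_KK hS (conj_mul_self hu g)
    (by rw [← g2, ← g1, mul_smul, mul_smul, inv_smul_smul])
  obtain ⟨n, hn⟩ := exists_pow_mul_self_eq (odd_orderOf_of_mem_DD hS hk.1)
  have hl := pow_mem_invertedBy hk n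
  generalize (g * u * g⁻¹ * t) ^ n = l at hn hl
  have hD : g * (u * v) * g⁻¹ ∈ DD a t := by
    constructor
    · change _ • a = a
      rw [← g1, mul_smul, mul_smul, inv_smul_smul, hb]
    · change _ • t • a = t • a
      rw [← g2, mul_smul, mul_smul, inv_smul_smul, hc]
  have ht : t = l⁻¹ * (g * u * g⁻¹) * l := by
    have h1 := t_conj_of_mem_KK hS hl
    calc t = l⁻¹ * (l * l) * (t * l * t) * t := by rw [h1]; group
      _ = l⁻¹ * (g * u * g⁻¹ * (t * t)) * l * (t * t) := by rw [hn]; group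
      _ = _ := by rw [hS.mul_self]; group
  refine ⟨l⁻¹ * g, (mem_KK hS).2 ⟨?_, ?_⟩⟩
  · simpa [mul_assoc] using mul_mem (mul_mem (inv_mem hl.1) hD) hl.1
  · rw [ht]
    calc _ = l⁻¹ * g * (u * u * v * u) * g⁻¹ * l := by group
      _ = l⁻¹ * g * (v⁻¹ * u⁻¹) * g⁻¹ * l := by
        rw [hu, one_mul, inv_eq_of_mul_self hu, inv_eq_of_mul_self hv]
      _ = _ := by group

variable (hK : ∀ k ∈ KK a t, ∀ l ∈ KK a t, k * l ∈ KK a t)
include hK

theorem card_ne_sq {s : G} (hs : s ∈ II G a) (e : t * s * t = s⁻¹ * t * s) :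
    Nat.card Q ≠ Nat.card (QZ G a) ^ 2 := by
  intro hc
  have := finite_Ω hS
  obtain ⟨n, hn1, hn⟩ := exists_card_QZ hS
  have hq : 2 ∣ Nat.card (QZ G a) := by rw [hn]; exact dvd_pow_self 2 (by omega)
  have hq0 := Nat.card_pos (α := QZ G a)
  obtain ⟨p, hp, hpq⟩ := Nat.exists_prime_and_dvd (n := Nat.card (QZ G a) + 1) (by omega)
  have hp2 : ¬ p ∣ 2 := fun h => by
    rw [(Nat.prime_dvd_prime_iff_eq hp Nat.prime_two).1 h] at hpq
    omega
  have : Fact p.Prime := ⟨hp⟩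
  obtain ⟨y, hy⟩ := exists_prime_orderOf_dvd_card' (G := bru t (QZ G a) (KS a t)) p (by
    rw [(bruData_QZ hS hK hs e).card_bru hS]; exact hpq.mul_left _)
  rw [← Subgroup.orderOf_coe] at hy
  obtain ⟨u, v, hu, hv, e'⟩ := L0_strongly_real hS hK hs e y.2
  have h1 := CL.Zass.nfix_modEq (Ω := Ω) hp (hy ▸ pow_orderOf_eq_one (y : G))
  obtain ⟨b, hb⟩ : ∃ b : Ω, (y : G) • b = b := by
    by_contra h
    rw [CL.Zass.nfix_eq_zero_iff.2 (fun b hb => h ⟨b, hb⟩), card_Ω hS, hc] at h1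
    have h2 := (Nat.modEq_zero_iff_dvd).1 h1
    obtain ⟨q, hq⟩ : ∃ q, Nat.card (QZ G a) = q + 1 := ⟨_, (Nat.sub_add_cancel hq0).symm⟩
    rw [hq] at h2 hpq
    rw [show (q + 1) ^ 2 + 1 = (q + 1 + 1) * q + 2 by ring] at h2
    exact hp2 ((Nat.dvd_add_right (hpq.mul_right _)).1 h2)
  rw [e'] at hb hy
  obtain ⟨g, hg⟩ := strongly_real_conj_K hS hu hv (fun h => hp2 (by
    rw [← hy]; exact orderOf_dvd_of_pow_eq_one (by rw [pow_two, h]))) hb
  have h2 := Subgroup.orderOf_dvd_natCard _ (mem_KS_of_mem_KK hg)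
  rw [show g * (u * v) * g⁻¹ = MulAut.conj g (u * v) from rfl, MulEquiv.orderOf_eq, hy,
    card_KS hK] at h2
  rw [card_QZ_eq hS, add_assoc] at hpq
  exact hp2 ((Nat.dvd_add_right h2).1 hpq)

variable (hq : 2 < Nat.card (QZ G a)) (h2 : IsPGroup 2 Q) (hna : ∃ x y : Q, x * y ≠ y * x)
  (hcard : Nat.card Q = Nat.card (QZ G a) ^ 2)
include hq h2 hna hcard

theorem exists_struct_of_sq :
    ∃ s ∈ II G a, ∃ r ∈ Q, t * s * t = r⁻¹ * t * r ∧ r * r = s := by
  have hP := isSuzukiTwoGroup hS hK (QZ_le hS) le_rfl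
    (fun k hk x hx => conj_mem_Q hS (KS_le_DD hk).1 hx) h2 hna hq
  obtain ⟨-, -, -, hexp⟩ := Cfsg.Agent.S1138.result hP
  obtain ⟨s, hs, r, hr, e⟩ := exists_structure_eq hS
  have h4 : r ^ 4 = 1 := congrArg Subtype.val (hexp ▸ Monoid.pow_exponent_eq_one (⟨r, hr⟩ : Q))
  rcases struct_dichotomy hS hs hr e (by rw [← h4]; simp only [pow_succ, pow_zero]; group)
    with rfl | ⟨hrr, -⟩
  · exact absurd hcard (card_ne_sq hS hK hs e)
  · exact ⟨s, hs, r, hr, e, hrr⟩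

theorem exists_SD : ∃ (F : Type) (_ : Field F) (_ : Fintype F) (m : ℕ) (C : CL.Sz.Ctx F m)
    (θ : F ≃+* F) (E : F → F → G), SD a t Q θ E 1 ∧ (∀ x, θ x = C.θ x) ∧
      Fintype.card F = Nat.card (QZ G a) := by
  have hc : ∀ k ∈ KS a t, ∀ x ∈ Q, k * x * k⁻¹ ∈ Q :=
    fun k hk x hx => conj_mem_Q hS (KS_le_DD hk).1 hx
  have hP := isSuzukiTwoGroup hS hK (QZ_le hS) le_rfl hc h2 hna hq
  have hZ := card_center_eq hS (QZ_le hS) le_rfl hP
  have := isCyclic_KS hS hK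
  obtain ⟨F, _, _, _, φ, κ, e, hF, -, ho, he⟩ := CL.Suz2.exists_typeA_equivariant (rho _ Q hc) h2
    hna (exists_two_invol hS (QZ_le hS) hq) (rho_regular hS hK le_rfl hc) (hZ ▸ hcard)
  rw [hZ] at hF
  obtain ⟨s, hs, r, hr, es, hrr⟩ := exists_struct_of_sq hS hK hq h2 hna hcard
  obtain ⟨n, -, hn⟩ := exists_card_QZ hS
  obtain ⟨m, rfl⟩ := odd_of_sq hS hK hs hr es hrr hn
  have C : CL.Sz.Ctx F m := ⟨by
    by_contra h
    rw [hn, show m = 0 by omega] at hq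
    simp at hq, hF.trans hn⟩
  obtain ⟨⟨ρ, γ⟩, hρ⟩ := e.surjective ⟨r, hr⟩
  have hs' : (e ⟨0, ρ * φ ρ⟩ : G) = s := by
    rw [← hrr, show r * r = ((⟨r, hr⟩ * ⟨r, hr⟩ : Q) : G) from rfl, ← hρ, ← map_mul]
    congr 2
    exact CL.Suz2.TA.ext' (CharTwo.add_self_eq_zero ρ).symm
      (by simp [CL.Suz2.TA.mul_y, CharTwo.add_self_eq_zero, mul_comm])
  have hρ0 : ρ ≠ 0 := by
    rintro rfl
    rw [zero_mul, show (⟨0, 0⟩ : CL.Suz2.TA (φ : F →+* F)) = 1 from rfl, map_one] at hs'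
    exact hs.2.1 hs'.symm
  have hρ1 := (map_ne_zero φ).2 hρ0
  have hk : ∀ (k : KS a t) (x y : F), (k : G) * e ⟨x, y⟩ * (k : G)⁻¹ =
      e ⟨κ k * x, κ k * φ (κ k) * y⟩ := fun k x y => congrArg Subtype.val (he k ⟨x, y⟩)
  have D : SD a t Q φ (fun x y => e ⟨ρ * x, ρ * φ ρ * y⟩) (γ / (ρ * φ ρ)) := by
    refine ⟨hS, fun x y x' y' => ?_, fun x y => (e _).2, fun g hg => ?_, fun h => ?_,
      fun l hl => ?_, ?_, fun x y h => ?_⟩
    · rw [← Subgroup.coe_mul, ← map_mul]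
      congr 2
      exact CL.Suz2.TA.ext' (mul_add _ _ _).symm (by simp [CL.Suz2.TA.mul_y]; ring)
    · obtain ⟨⟨x, y⟩, h⟩ := e.surjective ⟨g, hg⟩
      refine ⟨x / ρ, y / (ρ * φ ρ), ?_⟩
      simp only [mul_div_cancel₀ _ hρ0, mul_div_cancel₀ _ (mul_ne_zero hρ0 hρ1), h]
    · have := e.injective (Subtype.ext h)
      exact ⟨mul_left_cancel₀ hρ0 (congrArg CL.Suz2.TA.x this),
        mul_left_cancel₀ (mul_ne_zero hρ0 hρ1) (congrArg CL.Suz2.TA.y this)⟩
    · obtain ⟨k, hk'⟩ := κ.surjective (Units.mk0 l hl)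
      refine ⟨k, (mem_KS hK).1 k.2, fun x y => ?_⟩
      simp only [hk, hk', Units.val_mk0]
      congr 3 <;> ring
    · simp only [mul_zero, mul_one, hs', mul_div_cancel₀ _ (mul_ne_zero hρ0 hρ1), hρ, es]
    · have h : x * φ x = y * φ y := h
      by_cases hx : x = 0
      · rw [hx, zero_mul, eq_comm, mul_eq_zero, map_eq_zero, or_self] at h
        rw [hx, h]
      by_cases hy : y = 0
      · simp [hx, hy] at h
      obtain ⟨k, hk1⟩ := κ.surjective (Units.mk0 x hx)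
      obtain ⟨l, hl1⟩ := κ.surjective (Units.mk0 y hy)
      have h1 := eq_of_K_conj_eq hS hs (inv_mem_invertedBy ((mem_KS hK).1 k.2))
        (inv_mem_invertedBy ((mem_KS hK).1 l.2)) (by
          rw [inv_inv, inv_inv, ← hs', hk, hk, hk1, hl1]
          simp [h])
      rw [Subtype.ext (inv_injective h1), hl1] at hk1
      exact (congrArg Units.val hk1).symm
  rcases sz_theta φ _ D.ninj D.functional with ⟨h3, h4⟩ | ⟨h3, h4⟩
  · rw [h3] at D
    exact ⟨F, _, _, m, C, φ, _, D, theta_eq C ho h4, hF⟩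
  · have D' := D.flip
    rw [h3, zero_add] at D'
    refine ⟨F, _, _, m, C, φ.symm, _, D', theta_eq C ?_ fun x => ?_, hF⟩
    · rwa [show φ.symm = φ⁻¹ from rfl, orderOf_inv]
    · rw [RingEquiv.symm_apply_eq, RingEquiv.symm_apply_eq, map_pow, map_pow, h4]

/-- **Recognition of `Sz(q)`.** -/
theorem recog_sz [FaithfulSMul G Ω] : ∃ (F : Type) (_ : Field F) (_ : Fintype F) (m : ℕ), 1 ≤ m ∧
    Fintype.card F = 2 ^ (2 * m + 1) ∧ Fintype.card F = Nat.card (QZ G a) ∧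
      Nonempty (LL Q t ≃* Cfsg.Sz F m) ∧ Nonempty (LL Q t ≃* Lie.Sz F (2 ^ (m + 1))) := by
  obtain ⟨F, _, _, m, C, θ, E, D, hθ, hF⟩ := exists_SD hS hK hq h2 hna hcard
  obtain ⟨φ⟩ := D.equiv_Sz C hθ
  exact ⟨F, _, _, m, C.hm, C.hF, hF, ⟨φ⟩, ⟨φ.trans C.equivLie⟩⟩

end main

end CL.ROR
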