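import Cfsg.Agent.Base
import Cfsg.Agent.RankOneRec.L0
import Cfsg.Agent.RankOne.Concl
import Cfsg.Agent.Unitary.Simple
import Cfsg.Agent.TwoFus.U3Model

/-!
The action of `SU₃(q)`, `q` even, on the isotropic points of the antidiagonal form, and the
recognition of `PSU₃(q)` from an explicit action of `Q` and `t`.
-/

set_option autoImplicit false

namespace CL.ROR

open Cfsg MulAction CL.RankOne CL.Herm

/-- Version of `equiv_of_lift` for a non-faithful model. -/
theorem equiv_quot_of_lift {G Ω M X : Type*} [Group G] [MulAction G Ω] [Group M] [MulAction M X]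
    (N : Subgroup M) [N.Normal] (hN : ∀ m, m ∈ N ↔ ∀ x : X, m • x = x)
    (ι : X → Ω) (hι : Function.Injective ι) (L : Subgroup G)
    (h1 : ∀ l ∈ L, ∃ m : M, ∀ x, l • ι x = ι (m • x))
    (h2 : ∀ m : M, ∃ l ∈ L, ∀ x, l • ι x = ι (m • x))
    (h3 : ∀ l ∈ L, (∀ x, l • ι x = ι x) → l = 1) : Nonempty (L ≃* M ⧸ N) := by
  obtain ⟨φ, -⟩ := equiv_of_lift (M := (toPermHom M X).range) ι hι L
    (fun l hl => by
      obtain ⟨m, hm⟩ := h1 l hl
      exact ⟨⟨_, m, rfl⟩, hm⟩)
    (by
      rintro ⟨_, m, rfl⟩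
      exact h2 m) h3
  have hker : N = (toPermHom M X).ker := by
    ext m
    rw [hN, MonoidHom.mem_ker, Equiv.ext_iff]
    rfl
  exact ⟨φ.trans ((QuotientGroup.quotientMulEquivOfEq hker).trans
    (QuotientGroup.quotientKerEquivRange _)).symm⟩

variable {E : Type*} [Field E] {σ : E →+* E} {q : ℕ}

/-- The antidiagonal Hermitian form on `E³`. -/
def antiForm (σ : E →+* E) : (Fin 3 → E) →ₛₗ[σ] (Fin 3 → E) →ₗ[E] E :=
  LinearMap.mk₂'ₛₗ σ (RingHom.id E) (fun u v => σ (u 0) * v 2 + σ (u 1) * v 1 + σ (u 2) * v 0)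
    (fun u u' v => by simp only [Pi.add_apply, map_add]; ring)
    (fun c u v => by simp only [Pi.smul_apply, smul_eq_mul, map_mul]; ring)
    (fun u v v' => by simp only [Pi.add_apply]; ring)
    (fun c u v => by simp only [Pi.smul_apply, smul_eq_mul, RingHom.id_apply]; ring)

theorem antiForm_apply (u v : Fin 3 → E) :
    antiForm σ u v = σ (u 0) * v 2 + σ (u 1) * v 1 + σ (u 2) * v 0 := rfl

theorem isHerm_antiForm (h : Conj σ q) : IsHerm q (antiForm σ) where
  conj := h
  symm x y := by simp only [antiForm_apply, map_add, map_mul, h.invol]; ring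
  nd x hx := by
    have h0 := hx ![0, 0, 1]
    have h1 := hx ![0, 1, 0]
    have h2 := hx ![1, 0, 0]
    simp [antiForm_apply] at h0 h1 h2
    ext i; fin_cases i <;> assumption

/-- Representing vectors of the isotropic points. -/
def uvec : Option (U3.U E σ) → Fin 3 → E
  | none => ![1, 0, 0]
  | some u => ![u.b, σ u.a, 1]

theorem uvec_ne_zero (x : Option (U3.U E σ)) : uvec x ≠ 0 := by
  intro h
  rcases x with _ | u
  · simpa [uvec] using congrFun h 0
  · simpa [uvec] using congrFun h 2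

theorem uvec_inj {x y : Option (U3.U E σ)} {c d : E} (hc : c ≠ 0) (h : c • uvec x = d • uvec y) :
    x = y := by
  have h0 := congrFun h 0
  have h1 := congrFun h 1
  have h2 := congrFun h 2
  rcases x with _ | u <;> rcases y with _ | u'
  · rfl
  · simp [uvec] at h0 h2
    rw [← h2, zero_mul] at h0
    exact absurd h0 hc
  · simp [uvec] at h2
    exact absurd h2 hc
  · simp [uvec] at h0 h1 h2
    subst h2
    congr 1
    exact U3.U.ext' (σ.injective (mul_left_cancel₀ hc h1)) (mul_left_cancel₀ hc h0)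

variable [CharP E 2]

theorem iso_uvec (h : Conj σ q) (x : Option (U3.U E σ)) : antiForm σ (uvec x) (uvec x) = 0 := by
  rcases x with _ | u
  · simp [uvec, antiForm_apply]
  · have := u.h
    simp only [uvec, antiForm_apply, Matrix.cons_val_zero, Matrix.cons_val_one,
      Matrix.cons_val_two, Matrix.tail_cons, Matrix.head_cons, h.invol, map_one]
    linear_combination this + (u.a * σ u.a) * (CharTwo.two_eq_zero (R := E))

theorem exists_uvec (h : Conj σ q) {p : Fin 3 → E} (hp0 : p ≠ 0) (hp : antiForm σ p p = 0) :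
    ∃ (x : Option (U3.U E σ)) (c : E), c ≠ 0 ∧ p = c • uvec x := by
  rw [antiForm_apply] at hp
  by_cases h2 : p 2 = 0
  · have h1 : p 1 = 0 := by simpa [h2] using hp
    refine ⟨none, p 0, fun h0 => hp0 ?_, ?_⟩
    · ext i; fin_cases i <;> assumption
    · ext i; fin_cases i <;> simp [uvec, h1, h2]
  · have h2' : σ (p 2) ≠ 0 := (map_ne_zero σ).2 h2
    refine ⟨some ⟨σ (p 1 / p 2), p 0 / p 2, ?_⟩, p 2, h2, ?_⟩
    · simp only [map_div₀, h.invol]
      field_simp
      linear_combination hp - (σ (p 1) * p 1) * (CharTwo.two_eq_zero (R := E))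
    · ext i; fin_cases i <;> simp [uvec, h.invol] <;> field_simp

theorem exists_act (h : Conj σ q) (g : SUG (antiForm σ)) (x : Option (U3.U E σ)) :
    ∃ (y : Option (U3.U E σ)) (c : E), c ≠ 0 ∧ g.1 (uvec x) = c • uvec y :=
  exists_uvec h (by simpa using uvec_ne_zero x) (by rw [g.2.1, iso_uvec h])

/-- The action of `SU₃` on the isotropic points. -/
@[reducible] noncomputable def u3Action (h : Conj σ q) :
    MulAction (SUG (antiForm σ)) (Option (U3.U E σ)) where
  smul g x := (exists_act h g x).choose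
  one_smul x := by
    obtain ⟨c, hc, e⟩ := (exists_act h 1 x).choose_spec
    exact uvec_inj hc (e.symm.trans (one_smul E _).symm)
  mul_smul g g' x := by
    obtain ⟨c, hc, e⟩ := (exists_act h (g * g') x).choose_spec
    obtain ⟨c', hc', e'⟩ := (exists_act h g' x).choose_spec
    obtain ⟨c'', hc'', e''⟩ := (exists_act h g (exists_act h g' x).choose).choose_spec
    refine uvec_inj (d := c' * c'') hc (e.symm.trans ?_)
    rw [Subgroup.coe_mul, LinearEquiv.mul_apply, e', map_smul, e'', smul_smul]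
    rfl

theorem u3_smul_spec (h : Conj σ q) (g : SUG (antiForm σ)) (x : Option (U3.U E σ)) :
    letI := u3Action h
    ∃ c : E, c ≠ 0 ∧ g.1 (uvec x) = c • uvec (g • x) := (exists_act h g x).choose_spec

theorem u3_smul_eq (h : Conj σ q) (g : SUG (antiForm σ)) {x y : Option (U3.U E σ)} {c : E}
    (e : g.1 (uvec x) = c • uvec y) :
    letI := u3Action h
    g • x = y := by
  obtain ⟨c', hc', e'⟩ := u3_smul_spec h g x
  exact uvec_inj hc' (e'.symm.trans e)

theorem u3_center (h : Conj σ q) (g : SUG (antiForm σ)) :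
    letI := u3Action h
    g ∈ Subgroup.center (SUG (antiForm σ)) ↔ ∀ x : Option (U3.U E σ), g • x = x := by
  let := u3Action h
  have H := isHerm_antiForm h
  rw [H.mem_center_SUG (by simp)]
  constructor
  · rintro ⟨u, hu⟩ x
    exact u3_smul_eq h g (c := u) (by rw [hu]; rfl)
  · intro hx
    refine H.exists_eq_scalarAut_of_isotropic (by simp) fun p hp => ?_
    by_cases hp0 : p = 0
    · simp [hp0]
    · obtain ⟨x, c, hc, rfl⟩ := exists_uvec h hp0 hp
      obtain ⟨c', -, e⟩ := u3_smul_spec h g x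
      rw [map_smul, e, hx, smul_comm]
      exact Submodule.smul_mem _ _ (Submodule.mem_span_singleton_self _)

theorem exists_su_U (h : Conj σ q) (u : U3.U E σ) : ∃ g : SUG (antiForm σ),
    ∀ x, g.1 x = ![x 0 + u.a * x 1 + u.b * x 2, x 1 + σ u.a * x 2, x 2] := by
  have H := isHerm_antiForm h
  obtain ⟨g, hg⟩ := H.exists_isEich (p := ![1, 0, 0]) (w := ![0, σ u.a, 0]) (c := u.b)
    (by simp [antiForm_apply]) (by simp [antiForm_apply]) (by simp [antiForm_apply, h.invol, u.h])
  refine ⟨⟨g, hg.mem_SUG H⟩, fun x => ?_⟩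
  rw [hg.eq]
  ext i; fin_cases i <;> simp [antiForm_apply, h.invol, CharTwo.sub_eq_add, mul_comm] <;> rfl

theorem exists_su_T (h : Conj σ q) : ∃ g : SUG (antiForm σ), ∀ x, g.1 x = ![x 2, x 1, x 0] := by
  have H := isHerm_antiForm h
  have hp : antiForm σ ![1, 0, 1] ![1, 0, 1] = 0 := by simp [antiForm_apply, CharTwo.add_self_eq_zero]
  obtain ⟨g, hg⟩ := exists_isTv' hp 1
  refine ⟨⟨g, hg.mem_SUG H hp (by simp [CharTwo.add_self_eq_zero])⟩, fun x => ?_⟩
  rw [hg]
  ext i; fin_cases i <;> simp [antiForm_apply]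
  · linear_combination (x 0) * (CharTwo.two_eq_zero (R := E))
  · linear_combination (x 2) * (CharTwo.two_eq_zero (R := E))

variable [Fact (∀ x, σ (σ x) = x)]

omit [CharP E 2] in
theorem U_b_ne_zero {u : U3.U E σ} (hu : u ≠ 1) : u.b ≠ 0 := by
  intro hb
  have := u.h
  rw [hb, map_zero, add_zero] at this
  refine hu (U3.U.ext' ?_ hb)
  rcases mul_eq_zero.1 this.symm with h | h
  · exact h
  · exact (map_eq_zero σ).1 h

/-- Data describing an action of `Q` and `t` as on the isotropic points. -/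
structure U3Act {G Ω : Type*} [Group G] [MulAction G Ω] (t : G) (Q : Subgroup G)
    (ι : Option (U3.U E σ) → Ω) (e : Q ≃* U3.U E σ) : Prop where
  bij : Function.Bijective ι
  Q_inf : ∀ x ∈ Q, x • ι none = ι none
  Q_pt : ∀ (x : Q) (u : U3.U E σ), (x : G) • ι (some u) = ι (some (e x * u))
  t_inf : t • ι none = ι (some 1)
  t_zero : t • ι (some 1) = ι none
  t_pt : ∀ u u' : U3.U E σ, u ≠ 1 → u'.a * σ u.b = u.a → u'.b * u.b = 1 →
    t • ι (some u) = ι (some u')

variable {G Ω : Type*} [Group G] [MulAction G Ω] {t : G} {Q : Subgroup G}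
  {ι : Option (U3.U E σ) → Ω} {e : Q ≃* U3.U E σ}

theorem U3Act.lift_Q (A : U3Act t Q ι e) (h : Conj σ q) (x : Q) {g : SUG (antiForm σ)}
    (hg : ∀ v, g.1 v = ![v 0 + (e x).a * v 1 + (e x).b * v 2, v 1 + σ (e x).a * v 2, v 2]) :
    letI := u3Action h
    ∀ y, (x : G) • ι y = ι (g • y) := by
  rintro (_ | u)
  · rw [A.Q_inf x x.2, u3_smul_eq h g (y := none) (c := 1)]
    rw [hg]; simp [uvec]
  · rw [A.Q_pt, u3_smul_eq h g (y := some (e x * u)) (c := 1)]
    rw [hg]
    ext i; fin_cases i <;> simp [uvec, U3.mul_a, U3.mul_b] <;> ring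

theorem U3Act.lift_t (A : U3Act t Q ι e) (h : Conj σ q) {g : SUG (antiForm σ)}
    (hg : ∀ v, g.1 v = ![v 2, v 1, v 0]) :
    letI := u3Action h
    ∀ y, t • ι y = ι (g • y) := by
  rintro (_ | u)
  · rw [A.t_inf, u3_smul_eq h g (y := some 1) (c := 1)]
    rw [hg]; simp [uvec, U3.one_a, U3.one_b]
  · by_cases hu : u = 1
    · rw [hu, A.t_zero, u3_smul_eq h g (y := none) (c := 1)]
      rw [hg]; simp [uvec, U3.one_a, U3.one_b]
    · have hb := U_b_ne_zero hu
      have hb' : σ u.b ≠ 0 := (map_ne_zero σ).2 hb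
      let u' : U3.U E σ := ⟨u.a / σ u.b, u.b⁻¹, by
        have := u.h
        simp only [map_div₀, map_inv₀, h.invol]
        field_simp
        linear_combination this⟩
      rw [A.t_pt u u' hu (div_mul_cancel₀ _ hb') (inv_mul_cancel₀ hb),
        u3_smul_eq h g (y := some u') (c := u.b)]
      rw [hg]
      ext i; fin_cases i <;> simp [uvec, u', h.invol, hb]
      field_simp

theorem U3Act.lift_LL (A : U3Act t Q ι e) (h : Conj σ q) :
    letI := u3Action h
    ∀ l ∈ LL Q t, ∃ m : SUG (antiForm σ), ∀ x, l • ι x = ι (m • x) := by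
  let := u3Action h
  have : LL Q t ≤ liftSub G (SUG (antiForm σ)) ι := by
    refine LL_le (fun x hx => ?_) ?_
    · obtain ⟨g, hg⟩ := exists_su_U h (e ⟨x, hx⟩)
      exact ⟨g, A.lift_Q h ⟨x, hx⟩ hg⟩
    · obtain ⟨g, hg⟩ := exists_su_T h
      exact ⟨g, A.lift_t h hg⟩
  exact fun l hl => this hl

theorem U3Act.lifted (A : U3Act t Q ι e) (h : Conj σ q) (hq : q ≠ 2) :
    letI := u3Action h
    ∀ m : SUG (antiForm σ), ∃ l ∈ LL Q t, ∀ x, l • ι x = ι (m • x) := by
  let := u3Action h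
  have H := isHerm_antiForm h
  let N := liftedSub (SUG (antiForm σ)) ι (LL Q t)
  have hU : ∀ (u : U3.U E σ) (g : SUG (antiForm σ)),
      (∀ x, g.1 x = ![x 0 + u.a * x 1 + u.b * x 2, x 1 + σ u.a * x 2, x 2]) → g ∈ N := by
    intro u g hg
    obtain ⟨x, rfl⟩ := e.surjective u
    exact ⟨x, Q_le_LL x.2, A.lift_Q h x hg⟩
  obtain ⟨T, hT⟩ := exists_su_T h
  have hTN : T ∈ N := ⟨t, mem_LL_t, A.lift_t h hT⟩
  have h0 : ∀ (g : SUG (antiForm σ)) (c : E), c + σ c = 0 → IsTv (antiForm σ) ![1, 0, 0] c g →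
      g ∈ N := by
    intro g c hc hg
    refine hU ⟨0, c, by simpa using hc⟩ g fun x => ?_
    rw [hg]
    ext i; fin_cases i <;> simp [antiForm_apply]
  have : N = ⊤ := by
    refine H.eq_top_of_forall_isTv (by simp [hq]) fun g p c hp hc hg => ?_
    by_cases hp0 : p = 0
    · subst hp0
      rw [show g = 1 from Subtype.ext (hg.unique (IsTv.one' c))]
      exact N.one_mem
    · obtain ⟨x, d, hd, rfl⟩ := exists_uvec h hp0 hp
      have hg' := hg.of_smul
      have hc' : c * (d * σ d) + σ (c * (d * σ d)) = 0 := by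
        rw [map_mul, h.conj_norm, ← add_mul, hc, zero_mul]
      rcases x with _ | u
      · exact h0 g _ hc' hg'
      · obtain ⟨k, hk⟩ := exists_su_U h u
        have hkN := N.mul_mem (hU u k hk) hTN
        have h1 := hg'.conj (SUG_le_UG (k * T)⁻¹.2)
        have h2 : ((k * T)⁻¹ : SUG (antiForm σ)).1 (uvec (some u)) = ![1, 0, 0] := by
          change (k * T).1.symm _ = _
          rw [LinearEquiv.symm_apply_eq]
          rw [Subgroup.coe_mul, LinearEquiv.mul_apply, hT, hk]
          simp [uvec]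
        rw [h2] at h1
        have h3 := h0 ((k * T)⁻¹ * g * (k * T)⁻¹⁻¹) _ hc' h1
        simpa [mul_assoc] using N.mul_mem (N.mul_mem hkN h3) (N.inv_mem hkN)
  intro m
  have hm : m ∈ N := by rw [this]; trivial
  exact hm

/-- **Recognition of `PSU₃(q)` from the action.** -/
theorem U3Act.equiv_PSU [FaithfulSMul G Ω] (A : U3Act t Q ι e) (h : Conj σ q) (hq : q ≠ 2) :
    Nonempty (LL Q t ≃* Cfsg.PSU 3 E q) := by
  let := u3Action h
  obtain ⟨φ⟩ := equiv_quot_of_lift _ (u3_center h) ι A.bij.1 (LL Q t) (A.lift_LL h)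
    (A.lifted h hq) (fun l _ hl => FaithfulSMul.eq_of_smul_eq_smul (α := Ω) fun c => by
      obtain ⟨x, rfl⟩ := A.bij.2 c
      rw [hl, one_smul])
  obtain ⟨ψ⟩ := (isHerm_antiForm h).nonempty_SUG_equiv_SU (n := 3) (by simp)
  exact ⟨φ.trans (quotientCenterCongr ψ)⟩

/-- An element of `⟨Q, t⟩` fixing three points of the line `a = 0` fixes that line pointwise. -/
theorem U3Act.fix_line (A : U3Act t Q ι e) (h : Conj σ q) {l : G} (hl : l ∈ LL Q t)
    (h1 : l • ι none = ι none) (h2 : l • ι (some 1) = ι (some 1)) {u₀ : U3.U E σ}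
    (hu₀ : u₀ ≠ 1) (ha : u₀.a = 0) (h3 : l • ι (some u₀) = ι (some u₀)) {u : U3.U E σ}
    (hu : u.a = 0) : l • ι (some u) = ι (some u) := by
  let := u3Action h
  obtain ⟨m, hm⟩ := A.lift_LL h l hl
  obtain ⟨c1, -, e1⟩ := u3_smul_spec h m none
  obtain ⟨c2, -, e2⟩ := u3_smul_spec h m (some 1)
  obtain ⟨c3, -, e3⟩ := u3_smul_spec h m (some u₀)
  rw [A.bij.1 ((hm _).symm.trans h1)] at e1
  rw [A.bij.1 ((hm _).symm.trans h2)] at e2
  rw [A.bij.1 ((hm _).symm.trans h3)] at e3
  have key : ∀ v : U3.U E σ, v.a = 0 →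
      uvec (some v) = v.b • uvec (σ := σ) none + uvec (σ := σ) (some 1) := by
    intro v hv
    ext i; fin_cases i <;> simp [uvec, hv, U3.one_a, U3.one_b]
  rw [key u₀ ha, map_add, map_smul, e1, e2] at e3
  have h4 := congrFun e3 0
  have h5 := congrFun e3 2
  simp [uvec, U3.one_b] at h4 h5
  have h6 : c1 = c3 := by
    rw [mul_comm] at h4
    exact mul_right_cancel₀ (U_b_ne_zero hu₀) h4
  rw [hm, u3_smul_eq h m (y := some u) (c := c3)]
  rw [key u hu, map_add, map_smul, e1, e2, h5, h6, smul_add, smul_comm]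

end CL.ROR
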