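import Cfsg.Agent.Base
import Cfsg.Agent.RankOneRec.U3Crd
import Cfsg.Agent.RankOneRec.U3Act
import Cfsg.Agent.RankOneRec.ZT

/-!
Recognition of `PSU₃(q)`: if `Q` is a non-abelian 2-group of order `q³`, then `⟨Q, t⟩ ≅ PSU₃(q)`.
-/

set_option autoImplicit false

namespace CL.ROR

open Cfsg MulAction CL.RankOne CL.Herm

section field
variable {F : Type} [Field F] [CharP F 2]

omit [CharP F 2] in
theorem dt_comm (v w : F × F) : dt v w = dt w v := by unfold dt; ring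
theorem dt_self (v : F × F) : dt v v = 0 := by
  unfold dt; rw [mul_comm, CharTwo.add_self_eq_zero]
omit [CharP F 2] in
theorem dt_add_left (u v w : F × F) : dt (u + v) w = dt u w + dt v w := by simp [dt]; ring
omit [CharP F 2] in
theorem dt_add_right (u v w : F × F) : dt u (v + w) = dt u v + dt u w := by simp [dt]; ring
omit [CharP F 2] in
theorem dt_smul_left (c : F) (v w : F × F) : dt (c • v) w = c * dt v w := by simp [dt]; ring
omit [CharP F 2] in
theorem dt_smul_right (c : F) (v w : F × F) : dt v (c • w) = c * dt v w := by simp [dt]; ring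
omit [CharP F 2] in
theorem dt_zero_right (v : F × F) : dt v 0 = 0 := by simp [dt]
omit [CharP F 2] in
theorem dt_zero_left (v : F × F) : dt 0 v = 0 := by simp [dt]

theorem pair_add_self (v : F × F) : v + v = 0 := by
  ext <;> simp [CharTwo.add_self_eq_zero]

theorem eq_add_smul_of_dt {v v' w : F × F} (h : dt v w = 1) (h' : dt v' w = 1) :
    v' = v + dt v' v • w := by
  have h2 := CharTwo.two_eq_zero (R := F)
  unfold dt at *
  ext
  · simp only [Prod.fst_add, Prod.smul_fst, smul_eq_mul]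
    linear_combination (-v'.1) * h + v.1 * h' - (v.1 * v'.2 * w.1) * h2
  · simp only [Prod.snd_add, Prod.smul_snd, smul_eq_mul]
    linear_combination (-v'.2) * h + v.2 * h' - (v.2 * v'.1 * w.2) * h2

theorem exists_dt_eq_one {w w' : F × F} (h : dt w w' ≠ 0) : ∃ u, dt u w = 1 ∧ dt u w' = 1 := by
  refine ⟨(dt w w')⁻¹ • (w + w'), ?_, ?_⟩
  · rw [dt_smul_left, dt_add_left, dt_self, zero_add, dt_comm w', inv_mul_cancel₀ h]
  · rw [dt_smul_left, dt_add_left, dt_self, add_zero, inv_mul_cancel₀ h]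

omit [CharP F 2] in
theorem exists_dt_ne_zero {v : F × F} (hv : v ≠ 0) : ∃ η, dt v η ≠ 0 := by
  by_cases h : v.1 = 0
  · exact ⟨(1, 0), by simpa [dt, h] using fun h' => hv (Prod.ext h h')⟩
  · exact ⟨(0, 1), by simpa [dt] using h⟩

theorem dt_ne_zero_of_dep {v w η : F × F} (hvw : dt v w = 0) (hw : w ≠ 0) (hη : dt v η ≠ 0) :
    dt w η ≠ 0 := by
  intro h
  apply hw
  have h2 := CharTwo.two_eq_zero (R := F)
  unfold dt at *
  ext
  · apply mul_left_cancel₀ hη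
    simp only [Prod.fst_zero]
    linear_combination v.1 * h + η.1 * hvw - (v.1 * w.2 * η.1) * h2
  · apply mul_left_cancel₀ hη
    simp only [Prod.snd_zero]
    linear_combination v.2 * h + η.2 * hvw - (v.2 * w.1 * η.2) * h2

/-- An identification of an anisotropic plane with the quadratic extension. -/
structure QExt {E : Type} [Field E] (ι : F →+* E) (σ : E →+* E) (ψ : F × F → E) (A B : F) :
    Prop where
  add : ∀ v w, ψ (v + w) = ψ v + ψ w
  smul : ∀ c v, ψ (c • v) = ι c * ψ v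
  bij : Function.Bijective ψ
  σι : ∀ c, σ (ι c) = ι c
  fixed : ∀ z, σ z = z → ∃ c, z = ι c
  polar : ∀ v w, ψ v * σ (ψ w) + σ (ψ v) * ψ w = ι (dt v w)
  norm : ∀ v, ψ v * σ (ψ v) = ι (A * v.1 ^ 2 + v.1 * v.2 + B * v.2 ^ 2)

theorem exists_qext [Fintype F] {A B : F}
    (h : ∀ v : F × F, A * v.1 ^ 2 + v.1 * v.2 + B * v.2 ^ 2 = 0 → v = 0) :
    ∃ (E : Type) (_ : Field E) (_ : Fintype E) (_ : CharP E 2) (ι : F →+* E) (σ : E →+* E)
      (ψ : F × F → E), Conj σ (Fintype.card F) ∧ QExt ι σ ψ A B := by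
  have h2 := CharTwo.two_eq_zero (R := F)
  have hA : A ≠ 0 := fun hA => by simpa using h (1, 0) (by simp [hA])
  obtain ⟨α, hα⟩ := (frobeniusEquiv F 2).surjective A
  have hα : α ^ 2 = A := hα
  have hα0 : α ≠ 0 := fun h0 => hA (by rw [← hα, h0]; simp)
  have : Fact (∀ r : F, r ^ 2 ≠ A * B + 1 * r) := ⟨fun r hr => by
    have := h (r, A) (by linear_combination A * hr + (A * r + A ^ 2 * B) * h2)
    exact hA (congrArg Prod.snd this)⟩
  let E := QuadraticAlgebra F (A * B) 1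
  let _ : Fintype E := Fintype.ofEquiv _ (QuadraticAlgebra.equivProd (A * B) 1).symm
  have hE : CharP E 2 := charP_of_injective_algebraMap QuadraticAlgebra.algebraMap_injective 2
  let σ : E →+* E := starRingEnd E
  have hσ : ∀ z : E, σ z = ⟨z.re + 1 * z.im, -z.im⟩ := fun z => rfl
  obtain ⟨q, hq⟩ := exists_conj_of_invol σ (fun e => by
    have := congrArg QuadraticAlgebra.re (RingHom.congr_fun e ⟨0, 1⟩)
    simp [hσ] at this) (fun z => star_star z)
  have hq' : q = Fintype.card F := by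
    have := hq.card
    rw [Nat.card_congr (QuadraticAlgebra.equivProd (A * B) 1), Nat.card_prod,
      Nat.card_eq_fintype_card, ← pow_two] at this
    exact (Nat.pow_left_injective two_ne_zero this).symm
  subst hq'
  refine ⟨E, inferInstance, inferInstance, hE, algebraMap F E, σ,
    fun v => ⟨α * v.1, v.2 / α⟩, hq, ?_, ?_, ⟨?_, ?_⟩, ?_, ?_, ?_, ?_⟩
  · intro v w; ext <;> simp [E] <;> ring
  · intro c v; ext <;> simp [E] <;> ring
  · intro v w e
    have h1 := congrArg QuadraticAlgebra.re e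
    have h3 := congrArg QuadraticAlgebra.im e
    exact Prod.ext (mul_left_cancel₀ hα0 h1) ((div_left_inj' hα0).1 h3)
  · intro z
    exact ⟨(z.re / α, α * z.im), by ext <;> simp <;> field_simp⟩
  · intro c; rw [hσ]; ext <;> simp [E]
  · intro z hz
    have := congrArg QuadraticAlgebra.re hz
    rw [hσ] at this
    have h0 : z.im = 0 := by simpa using this
    exact ⟨z.re, QuadraticAlgebra.ext rfl h0⟩
  · intro v w
    rw [hσ, hσ]
    ext
    · simp [E, dt]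
      field_simp
      linear_combination (α ^ 4 * v.1 * w.1 - A * B * v.2 * w.2) * h2
    · simp [E]
      field_simp
      ring
  · intro v
    rw [hσ]
    refine QuadraticAlgebra.ext ?_ ?_
    · rw [QuadraticAlgebra.algebraMap_re]
      simp [E]
      field_simp
      rw [← hα]
      linear_combination (-(α ^ 2 * B * v.2 ^ 2)) * h2
    · rw [QuadraticAlgebra.algebraMap_im]
      simp [E]
      field_simp
      ring

end field

variable {G Ω : Type*} [Group G] [MulAction G Ω] {a : Ω} {t s : G} {Q : Subgroup G}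
  {F : Type} [Field F] {U : F → G} {P : G → F × F → F × F → Prop}

/-- The data of the unitary case. -/
structure UD (a : Ω) (t s : G) (Q : Subgroup G) (U : F → G) (P : G → F × F → F × F → Prop) :
    Prop where
  hS : IsRankOneSetup G Ω a t Q
  e : t * s * t = s⁻¹ * t * s
  fd : FieldData a t s F U
  crd : Crd a t Q U P
  sq : ∀ x ∈ Q, x * x ∈ QZ G a

/-- The parameter of `x ^ 2`. -/
noncomputable def nn (U : F → G) (x : G) : F := Function.invFun U (x * x)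

open Classical in
/-- The two rows. -/
noncomputable def row (P : G → F × F → F × F → Prop) (x : G) : (F × F) × (F × F) :=
  if h : ∃ p : (F × F) × (F × F), P x p.1 p.2 then h.choose else 0

/-- The linear coordinate on `Q / Q₀`. -/
noncomputable def xi (U : F → G) (P : G → F × F → F × F → Prop) (x : G) : F × F :=
  nn U x • (row P x).2

namespace UD
variable [Finite G] [CharP F 2] (D : UD a t s Q U P)
include D

omit [Finite G] [CharP F 2] in
theorem U_nn {x : G} (hx : x ∈ Q) : U (nn U x) = x * x :=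
  Function.invFun_eq (D.fd.surj _ (D.sq x hx))

omit [Finite G] [CharP F 2] in
theorem nn_eq {x : G} {b : F} (h : U b = x * x) : nn U x = b := by
  rw [nn, ← h, Function.leftInverse_invFun D.fd.inj]

omit [CharP F 2] in
theorem nn_QZ {x : G} (hx : x ∈ QZ G a) : nn U x = 0 :=
  D.nn_eq (by rw [D.fd.zero, QZ_mul_self D.hS hx])

omit [CharP F 2] in
theorem nn_ne {x : G} {v w : F × F} (h : P x v w) : nn U x ≠ 0 := by
  intro h0
  have := D.U_nn (D.crd.mem h).1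
  rw [h0, D.fd.zero] at this
  exact (D.crd.mem h).2 ((mem_QZ_iff D.hS).2 ⟨(D.crd.mem h).1, this.symm⟩)

omit [CharP F 2] in
theorem U_mem (b : F) : U b ∈ Q := QZ_le D.hS (D.fd.mem b)

omit [CharP F 2] in
theorem U_comm (b : F) {x : G} (hx : x ∈ Q) : U b * x = x * U b := QZ_comm D.hS (D.fd.mem b) hx

omit [CharP F 2] in
theorem nn_U_mul (b : F) {x : G} (hx : x ∈ Q) : nn U (U b * x) = nn U x := by
  refine D.nn_eq ?_
  rw [D.U_nn hx]
  calc x * x = U b * U b * (x * x) := by rw [QZ_mul_self D.hS (D.fd.mem b), one_mul]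
    _ = U b * (U b * x) * x := by group
    _ = _ := by nth_rw 1 [D.U_comm b hx]; group

omit [Finite G] in
theorem coset {x y : G} {v v' w : F × F} (h : P x v w) (h' : P y v' w) :
    y = U (dt v' v) * x := by
  refine D.crd.uniq' h' ?_
  have := D.crd.mulU (dt v' v) h
  rwa [← eq_add_smul_of_dt (D.crd.det h) (D.crd.det h')] at this

omit [CharP F 2] in
theorem inv_eq {x : G} (hx : x ∈ Q) : x⁻¹ = U (nn U x) * x := by
  rw [D.U_nn hx, inv_eq_iff_mul_eq_one, ← QZ_mul_self D.hS (D.sq x hx)]; group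

omit [CharP F 2] in
theorem inv {x : G} {v w : F × F} (h : P x v w) : P x⁻¹ (v + nn U x • w) w := by
  rw [D.inv_eq (D.crd.mem h).1]; exact D.crd.mulU _ h

omit [CharP F 2] in
theorem nn_inv {x : G} (hx : x ∈ Q) : nn U x⁻¹ = nn U x := by
  rw [D.inv_eq hx, D.nn_U_mul _ hx]

omit [CharP F 2] in
theorem can_U {b : F} (hb : b ≠ 0) : ∃ h f, Can a t Q (U b) (U b⁻¹) h f := by
  obtain ⟨k, hk, hkx⟩ := D.fd.scal b hb
  have hs : s ∈ QZ G a := D.fd.one ▸ D.fd.mem 1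
  have c := (can_s (a := a) (QZ_le D.hS hs) D.e).conjK' D.hS hk
  have h1 : k * s * k⁻¹ = U b := by rw [← D.fd.one, hkx, mul_one]
  have h2 : k⁻¹ * s⁻¹ * k = U b⁻¹ := by
    rw [inv_eq_of_mul_self (QZ_mul_self D.hS hs), ← D.fd.one, ← mul_inv_cancel₀ hb, ← hkx]; group
  rw [h1, h2] at c
  exact ⟨_, _, c⟩

theorem key {x y : G} {v w w' : F × F} (hx : P x v w) (hy : P y (v + nn U x • w) w')
    (hxy : x * y ∉ QZ G a) : ∃ w'', P (x * y) v w'' := by
  have hS := D.hS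
  have ne1 : ∀ {z : G}, z ∉ QZ G a → z ≠ 1 := fun h e => h (e ▸ one_mem _)
  have hxyQ := Q.mul_mem (D.crd.mem hx).1 (D.crd.mem hy).1
  obtain ⟨gx, hx', fx, cx⟩ := exists_can hS (D.crd.mem hx).1 (ne1 (D.crd.mem hx).2)
  obtain ⟨gy, hy', fy, cy⟩ := exists_can hS (D.crd.mem hy).1 (ne1 (D.crd.mem hy).2)
  have h1 := D.coset (D.crd.swap (D.inv hx) (cx.inv hS)) (D.crd.swap hy cy)
  have h2 : fx * gy = U (dt w' w) := by
    rw [h1, D.U_comm _ (Q.inv_mem cx.f_mem), mul_inv_cancel_left]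
  have h3 : dt w' w ≠ 0 := fun h0 =>
    cx.mul_ne_one hS cy hxyQ (ne1 hxy) (by rw [h2, h0, D.fd.zero])
  obtain ⟨hz, fz, cz⟩ := D.can_U h3
  rw [← h2] at cz
  obtain ⟨b, hb⟩ := D.fd.surj _ (conj_mem_QZ hS cx.h_mem.1 (D.fd.mem (dt w' w)⁻¹))
  have c := cx.mul hS cy cz
  rw [← hb, ← D.U_comm b cx.g_mem] at c
  obtain ⟨v'', w'', h⟩ := D.crd.ex hxyQ hxy
  rw [(D.crd.uniq (D.crd.swap h c) (D.crd.mulU b (D.crd.swap hx cx))).2] at h
  exact ⟨w'', h⟩

theorem key2 {x y : G} {v w w' : F × F} (hx : P x v w) (hy : P y (v + nn U x • w) w')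
    (hxy : x * y ∉ QZ G a) : ∃ w'', P (x * y) v w'' ∧
      nn U (x * y) • w'' = nn U x • w + nn U y • w' := by
  obtain ⟨w'', h⟩ := D.key hx hy hxy
  refine ⟨w'', h, ?_⟩
  obtain ⟨w3, h3⟩ := D.key (D.inv hy) (y := x⁻¹) (w' := w) (by
      rw [D.nn_inv (D.crd.mem hy).1, add_assoc, pair_add_self, add_zero]
      exact D.inv hx) (by rw [← mul_inv_rev]; exact fun h => hxy (inv_mem_iff.1 h))
  rw [← mul_inv_rev] at h3
  have := (D.crd.uniq (D.inv h) h3).1
  rwa [add_assoc, add_right_inj] at this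

omit [Finite G] [CharP F 2] in
theorem row_eq {x : G} {v w : F × F} (h : P x v w) : row P x = (v, w) := by
  have h1 : ∃ p : (F × F) × (F × F), P x p.1 p.2 := ⟨(v, w), h⟩
  rw [row, dif_pos h1]
  exact Prod.ext (D.crd.uniq h1.choose_spec h).1 (D.crd.uniq h1.choose_spec h).2

omit [Finite G] [CharP F 2] in
theorem xi_eq {x : G} {v w : F × F} (h : P x v w) : xi U P x = nn U x • w := by
  rw [xi, D.row_eq h]

omit [CharP F 2] in
theorem xi_QZ {x : G} (hx : x ∈ QZ G a) : xi U P x = 0 := by rw [xi, D.nn_QZ hx, zero_smul]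

omit [CharP F 2] in
theorem xi_ne {x : G} (hx : x ∈ Q) (hx0 : x ∉ QZ G a) : xi U P x ≠ 0 := by
  obtain ⟨v, w, h⟩ := D.crd.ex hx hx0
  rw [D.xi_eq h]
  refine smul_ne_zero (D.nn_ne h) fun h0 => ?_
  have := D.crd.det h
  rw [h0, dt_zero_right] at this
  exact zero_ne_one this

omit [CharP F 2] in
theorem xi_U_mul (b : F) {x : G} (hx : x ∈ Q) : xi U P (U b * x) = xi U P x := by
  by_cases hx0 : x ∈ QZ G a
  · rw [D.xi_QZ hx0, D.xi_QZ (mul_mem (D.fd.mem b) hx0)]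
  · obtain ⟨v, w, h⟩ := D.crd.ex hx hx0
    rw [D.xi_eq h, D.xi_eq (D.crd.mulU b h), D.nn_U_mul b hx]

omit [Finite G] [CharP F 2] in
theorem scal {x : G} {v w : F × F} (h : P x v w) {c : F} (hc : c ≠ 0) :
    ∃ y, P y (c • v) (c⁻¹ • w) ∧ nn U y = c ^ 2 * nn U x := by
  obtain ⟨k, -, h1, h2⟩ := D.crd.scal c hc
  refine ⟨_, h2 h, D.nn_eq ?_⟩
  rw [← h1, D.U_nn (D.crd.mem h).1]; group

omit [Finite G] [CharP F 2] in
theorem xi_scal {x : G} (hx : x ∈ Q) (hx0 : x ∉ QZ G a) {c : F} (hc : c ≠ 0) :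
    ∃ y ∈ Q, y ∉ QZ G a ∧ xi U P y = c • xi U P x ∧ nn U y = c ^ 2 * nn U x := by
  obtain ⟨v, w, h⟩ := D.crd.ex hx hx0
  obtain ⟨y, hy, e⟩ := D.scal h hc
  refine ⟨y, (D.crd.mem hy).1, (D.crd.mem hy).2, ?_, e⟩
  rw [D.xi_eq h, D.xi_eq hy, e, smul_smul, smul_smul]
  congr 1; field_simp

theorem xi_inj {x y : G} (hx : x ∈ Q) (hy : y ∈ Q) (e : xi U P x = xi U P y) :
    ∃ b, y = U b * x := by
  by_cases hx0 : x ∈ QZ G a
  · by_cases hy0 : y ∈ QZ G a
    · obtain ⟨b, hb⟩ := D.fd.surj _ (mul_mem hy0 (inv_mem hx0))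
      exact ⟨b, by rw [hb, inv_mul_cancel_right]⟩
    · exact absurd (e.symm.trans (D.xi_QZ hx0)) (D.xi_ne hy hy0)
  have hξ := D.xi_ne hx hx0
  obtain ⟨v, w, h⟩ := D.crd.ex hx hx0
  obtain ⟨v', w', h'⟩ := D.crd.ex hy (fun hy0 => hξ (e.trans (D.xi_QZ hy0)))
  have hn := D.nn_ne h
  have hn' := D.nn_ne h'
  rw [D.xi_eq h] at hξ
  rw [D.xi_eq h, D.xi_eq h'] at e
  have hw : w' = (nn U y / nn U x)⁻¹ • w := by
    rw [inv_div, div_eq_inv_mul, mul_smul, e, inv_smul_smul₀ hn']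
  obtain ⟨z, hz, ez⟩ := D.scal h (div_ne_zero hn' hn)
  rw [← hw] at hz
  rw [D.coset hz h', D.nn_U_mul _ (D.crd.mem hz).1] at hw
  have h1 : nn U z = nn U y := by rw [D.coset hz h', D.nn_U_mul _ (D.crd.mem hz).1]
  have h2 : nn U y = nn U x := by
    rw [h1] at ez
    field_simp at ez
    exact ez.symm
  rw [h1, h2, div_self hn, inv_one, one_smul] at hw
  exact ⟨_, D.coset h (hw ▸ h')⟩

omit [CharP F 2] in
theorem xi_surj {η : F × F} (hη : η ≠ 0) : ∃ x ∈ Q, x ∉ QZ G a ∧ xi U P x = η := by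
  obtain ⟨u, hu⟩ := exists_dt_ne_zero hη
  obtain ⟨x, hx⟩ := D.crd.ex' (v := (dt η u)⁻¹ • u) (w := η)
    (by rw [dt_smul_left, dt_comm u, inv_mul_cancel₀ hu])
  obtain ⟨y, hy, hy0, e, -⟩ := D.xi_scal (D.crd.mem hx).1 (D.crd.mem hx).2
    (inv_ne_zero (D.nn_ne hx))
  exact ⟨y, hy, hy0, by rw [e, D.xi_eq hx, inv_smul_smul₀ (D.nn_ne hx)]⟩

/-- Reduction of an independent pair to a special pair. -/
theorem indep {x y : G} (hx : x ∈ Q) (hy : y ∈ Q) (h : dt (xi U P x) (xi U P y) ≠ 0) :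
    ∃ x₁ y₁ b b' u w w' w'', x = U b * x₁ ∧ y = U b' * y₁ ∧ P x₁ (u + xi U P x₁) w ∧ P y₁ u w' ∧
      P (x₁ * y₁) (u + xi U P x₁) w'' ∧ xi U P (x₁ * y₁) = xi U P x₁ + xi U P y₁ := by
  obtain ⟨v, w, px⟩ := D.crd.ex hx (fun h0 => h (by rw [D.xi_QZ h0, dt_zero_left]))
  obtain ⟨v', w', py⟩ := D.crd.ex hy (fun h0 => h (by rw [D.xi_QZ h0, dt_zero_right]))
  rw [D.xi_eq px, D.xi_eq py, dt_smul_left, dt_smul_right] at h
  have h' := right_ne_zero_of_mul (right_ne_zero_of_mul h)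
  obtain ⟨u, hu, hu'⟩ := exists_dt_eq_one h'
  obtain ⟨x₀, p0⟩ := D.crd.ex' hu
  obtain ⟨y₁, p2⟩ := D.crd.ex' hu'
  have p1 := D.inv p0
  rw [← D.nn_inv (D.crd.mem p0).1] at p1
  generalize x₀⁻¹ = x₁ at p1
  obtain ⟨w'', p3, e⟩ := D.key2 p1 (y := y₁) (w' := w')
    (by rwa [add_assoc, pair_add_self, add_zero]) (fun h0 => by
      obtain ⟨b, hb⟩ := D.fd.surj _ h0
      have : y₁ = U b * x₁⁻¹ := by
        rw [D.U_comm b (inv_mem (D.crd.mem p1).1), hb, inv_mul_cancel_left]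
      rw [this] at p2
      rw [(D.crd.uniq p2 (D.crd.mulU b (D.inv p1))).2, dt_self] at h'
      exact h' rfl)
  refine ⟨x₁, y₁, _, _, u, w, w', w'', D.coset p1 px, D.coset p2 py, ?_, p2, ?_, ?_⟩
  · rwa [D.xi_eq p1]
  · rwa [D.xi_eq p1]
  · rw [D.xi_eq p1, D.xi_eq p2, D.xi_eq p3, e]

omit [CharP F 2] in
theorem U_mul_mul (b b' : F) {x : G} (hx : x ∈ Q) (y : G) :
    U b * x * (U b' * y) = U (b + b') * (x * y) := by
  rw [D.fd.add, mul_assoc, ← mul_assoc x, ← D.U_comm b' hx]; group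

theorem xi_mul {x y : G} (hx : x ∈ Q) (hy : y ∈ Q) (h : dt (xi U P x) (xi U P y) ≠ 0) :
    xi U P (x * y) = xi U P x + xi U P y ∧
      nn U (x * y) = nn U x + nn U y + dt (xi U P x) (xi U P y) := by
  obtain ⟨x₁, y₁, b, b', u, w, w', w'', rfl, rfl, p1, p2, p3, e⟩ := D.indep hx hy h
  have m1 := (D.crd.mem p1).1
  have m2 := (D.crd.mem p2).1
  rw [D.U_mul_mul b b' m1, D.xi_U_mul _ m1, D.xi_U_mul _ m2, D.xi_U_mul _ (mul_mem m1 m2),
    D.nn_U_mul _ m1, D.nn_U_mul _ m2, D.nn_U_mul _ (mul_mem m1 m2)]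
  refine ⟨e, ?_⟩
  have h1 : dt (u + xi U P x₁) (xi U P (x₁ * y₁)) = nn U (x₁ * y₁) := by
    rw [D.xi_eq p3, dt_smul_right, D.crd.det p3, mul_one]
  have h2 : dt (u + xi U P x₁) (xi U P x₁) = nn U x₁ := by
    nth_rw 2 [D.xi_eq p1]
    rw [dt_smul_right, D.crd.det p1, mul_one]
  have h3 : dt u (xi U P y₁) = nn U y₁ := by
    rw [D.xi_eq p2, dt_smul_right, D.crd.det p2, mul_one]
  rw [← h1, e, dt_add_right, h2, dt_add_left, h3, add_assoc]

theorem exists_form : ∃ A B : F, ∀ x ∈ Q,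
    nn U x = A * (xi U P x).1 ^ 2 + (xi U P x).1 * (xi U P x).2 + B * (xi U P x).2 ^ 2 := by
  obtain ⟨x₁, m1, n1, e1⟩ := D.xi_surj (η := (1, 0)) (by simp)
  obtain ⟨x₂, m2, n2, e2⟩ := D.xi_surj (η := (0, 1)) (by simp)
  have hnn : ∀ x ∈ Q, ∀ y ∈ Q, xi U P x = xi U P y → nn U y = nn U x := by
    intro x hx y hy e
    obtain ⟨b, rfl⟩ := D.xi_inj hx hy e
    exact D.nn_U_mul b hx
  have h1 : ∀ c : F, ∃ y ∈ Q, xi U P y = (c, 0) ∧ nn U y = nn U x₁ * c ^ 2 := by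
    intro c
    by_cases hc : c = 0
    · exact ⟨1, one_mem _, by rw [D.xi_QZ (one_mem _), hc]; rfl,
        by rw [D.nn_QZ (one_mem _), hc]; simp⟩
    · obtain ⟨y, hy, -, e, e'⟩ := D.xi_scal m1 n1 hc
      exact ⟨y, hy, by rw [e, e1]; simp, by rw [e', mul_comm]⟩
  have h2 : ∀ c : F, ∃ y ∈ Q, xi U P y = (0, c) ∧ nn U y = nn U x₂ * c ^ 2 := by
    intro c
    by_cases hc : c = 0
    · exact ⟨1, one_mem _, by rw [D.xi_QZ (one_mem _), hc]; rfl,
        by rw [D.nn_QZ (one_mem _), hc]; simp⟩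
    · obtain ⟨y, hy, -, e, e'⟩ := D.xi_scal m2 n2 hc
      exact ⟨y, hy, by rw [e, e2]; simp, by rw [e', mul_comm]⟩
  refine ⟨nn U x₁, nn U x₂, fun x hx => ?_⟩
  obtain ⟨y, hy, e, e'⟩ := h1 (xi U P x).1
  obtain ⟨z, hz, f, f'⟩ := h2 (xi U P x).2
  by_cases c1 : (xi U P x).1 = 0
  · rw [hnn z hz x hx (by rw [f]; exact Prod.ext c1.symm rfl), f', c1]; ring
  by_cases c2 : (xi U P x).2 = 0
  · rw [hnn y hy x hx (by rw [e]; exact Prod.ext rfl c2.symm), e', c2]; ring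
  obtain ⟨k1, k2⟩ := D.xi_mul hy hz (by rw [e, f]; simpa [dt] using ⟨c1, c2⟩)
  rw [hnn _ (mul_mem hy hz) x hx (by rw [k1, e, f]; simp), k2, e', f', e, f]
  simp only [dt]; ring

section ext
variable {E : Type} [Field E] [CharP E 2] {ι : F →+* E} {σ : E →+* E} {ψ : F × F → E} {A B : F}
  [hσ : Fact (∀ x, σ (σ x) = x)]

omit D [Finite G] [CharP F 2] in
open Classical in
/-- The second coordinate. -/
noncomputable def be (a : Ω) (U : F → G) (P : G → F × F → F × F → Prop) (ι : F →+* E)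
    (σ : E →+* E) (ψ : F × F → E) (x : G) : E :=
  if x ∈ QZ G a then ι (Function.invFun U x) else ψ (row P x).1 * σ (ψ (xi U P x))

omit [Finite G] [CharP F 2] [CharP E 2] hσ in
theorem be_U (b : F) : be a U P ι σ ψ (U b) = ι b := by
  rw [be, if_pos (D.fd.mem b), Function.leftInverse_invFun D.fd.inj]

omit [Finite G] [CharP F 2] [CharP E 2] hσ in
theorem be_eq {x : G} {v w : F × F} (h : P x v w) :
    be a U P ι σ ψ x = ψ v * σ (ψ (xi U P x)) := by
  rw [be, if_neg (D.crd.mem h).2, D.row_eq h]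

variable (X : QExt ι σ ψ A B) (hN : ∀ x ∈ Q,
    nn U x = A * (xi U P x).1 ^ 2 + (xi U P x).1 * (xi U P x).2 + B * (xi U P x).2 ^ 2)
include X hN

omit D [Finite G] [CharP F 2] [CharP E 2] hσ in
theorem norm_xi {x : G} (hx : x ∈ Q) : ψ (xi U P x) * σ (ψ (xi U P x)) = ι (nn U x) := by
  rw [X.norm, hN x hx]

omit D [Finite G] [CharP F 2] [CharP E 2] hσ hN in
theorem psi_zero : ψ 0 = 0 := by simpa using X.smul 0 0

omit [CharP F 2] [CharP E 2] hσ in
theorem norm_row {x : G} {v w : F × F} (h : P x v w) : ι (nn U x) * (ψ w * σ (ψ w)) = 1 := by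
  have := norm_xi X hN (D.crd.mem h).1
  rw [D.xi_eq h, X.smul, map_mul, X.σι] at this
  apply mul_left_cancel₀ ((map_ne_zero ι).2 (D.nn_ne h))
  linear_combination this

omit [CharP F 2] [CharP E 2] hσ in
theorem be_U_mul (b : F) {x : G} (hx : x ∈ Q) :
    be a U P ι σ ψ (U b * x) = ι b + be a U P ι σ ψ x := by
  by_cases hx0 : x ∈ QZ G a
  · obtain ⟨c, rfl⟩ := D.fd.surj x hx0
    rw [← D.fd.add, D.be_U, D.be_U, map_add]
  · obtain ⟨v, w, h⟩ := D.crd.ex hx hx0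
    rw [D.be_eq (D.crd.mulU b h), D.be_eq h, D.xi_U_mul b hx, D.xi_eq h, X.add, X.smul, X.smul,
      map_mul, X.σι]
    linear_combination ι b * D.norm_row X hN h

omit [CharP F 2] in
theorem be_trace {x : G} (hx : x ∈ Q) :
    be a U P ι σ ψ x + σ (be a U P ι σ ψ x) = ψ (xi U P x) * σ (ψ (xi U P x)) := by
  by_cases hx0 : x ∈ QZ G a
  · obtain ⟨c, rfl⟩ := D.fd.surj x hx0
    rw [D.be_U, X.σι, D.xi_QZ hx0, psi_zero X, zero_mul, CharTwo.add_self_eq_zero]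
  · obtain ⟨v, w, h⟩ := D.crd.ex hx hx0
    rw [D.be_eq h, map_mul, hσ.out, X.polar, norm_xi X hN hx, D.xi_eq h, dt_smul_right,
      D.crd.det h, mul_one]

omit [CharP F 2] in
/-- The coordinates of an element of `Q`. -/
noncomputable def ee (x : Q) : U3.U E σ :=
  ⟨ψ (xi U P x), be a U P ι σ ψ x, D.be_trace X hN x.2⟩

omit [CharP F 2] in
theorem ee_U_mul (b : F) (x : Q) :
    D.ee X hN (⟨U b, D.U_mem b⟩ * x) = D.ee X hN ⟨U b, D.U_mem b⟩ * D.ee X hN x := by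
  refine U3.U.ext' ?_ ?_
  · change ψ (xi U P (U b * x)) = ψ (xi U P (U b)) + ψ (xi U P x)
    rw [D.xi_U_mul b x.2, D.xi_QZ (D.fd.mem b), psi_zero X, zero_add]
  · change be a U P ι σ ψ (U b * x) = be a U P ι σ ψ (U b) + be a U P ι σ ψ x +
      ψ (xi U P (U b)) * _
    rw [D.be_U_mul X hN b x.2, D.be_U, D.xi_QZ (D.fd.mem b), psi_zero X, zero_mul, add_zero]

theorem ee_mul_indep (x y : Q) (h : dt (xi U P x) (xi U P y) ≠ 0) :
    D.ee X hN (x * y) = D.ee X hN x * D.ee X hN y := by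
  refine U3.U.ext' ?_ ?_
  · change ψ (xi U P (x * y)) = ψ (xi U P x) + ψ (xi U P y)
    rw [(D.xi_mul x.2 y.2 h).1, X.add]
  · change be a U P ι σ ψ (x * y) = be a U P ι σ ψ x + be a U P ι σ ψ y +
      ψ (xi U P x) * σ (ψ (xi U P y))
    obtain ⟨x₁, y₁, b, b', u, w, w', w'', e1, e2, p1, p2, p3, e⟩ := D.indep x.2 y.2 h
    have m1 := (D.crd.mem p1).1
    have m2 := (D.crd.mem p2).1
    rw [e1, e2, D.U_mul_mul b b' m1, D.xi_U_mul _ m1, D.xi_U_mul _ m2, D.be_U_mul X hN _ m1,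
      D.be_U_mul X hN _ m2, D.be_U_mul X hN _ (mul_mem m1 m2), D.be_eq p1, D.be_eq p2,
      D.be_eq p3, e, X.add, X.add, map_add, map_add]
    ring

omit [CharP F 2] in
theorem ee_one : D.ee X hN 1 = 1 := by
  refine U3.U.ext' ?_ ?_
  · change ψ (xi U P 1) = 0
    rw [D.xi_QZ (one_mem _), psi_zero X]
  · change be a U P ι σ ψ 1 = 0
    rw [← D.fd.zero, D.be_U, map_zero]

omit [CharP F 2] in
theorem ee_inv (x : Q) : D.ee X hN x⁻¹ = (D.ee X hN x)⁻¹ := by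
  refine U3.U.ext' ?_ ?_
  · change ψ (xi U P (x : G)⁻¹) = -ψ (xi U P x)
    rw [D.inv_eq x.2, D.xi_U_mul _ x.2, CharTwo.neg_eq]
  · change be a U P ι σ ψ (x : G)⁻¹ = σ (be a U P ι σ ψ x)
    rw [D.inv_eq x.2, D.be_U_mul X hN _ x.2, ← norm_xi X hN x.2, ← D.be_trace X hN x.2]
    linear_combination be a U P ι σ ψ x * CharTwo.two_eq_zero (R := E)

theorem ee_mul (x y : Q) : D.ee X hN (x * y) = D.ee X hN x * D.ee X hN y := by
  have hU : ∀ (b : F) (z : Q), D.ee X hN (z * ⟨U b, D.U_mem b⟩) =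
      D.ee X hN z * D.ee X hN ⟨U b, D.U_mem b⟩ := by
    intro b z
    rw [show z * ⟨U b, D.U_mem b⟩ = ⟨U b, D.U_mem b⟩ * z from
      Subtype.ext (D.U_comm b z.2).symm, D.ee_U_mul]
    refine U3.U.ext' (add_comm _ _) ?_
    simp only [U3.mul_b, ee, D.xi_QZ (D.fd.mem b), psi_zero X, map_zero]
    ring
  by_cases h : dt (xi U P x) (xi U P y) ≠ 0
  · exact D.ee_mul_indep X hN x y h
  rw [not_not] at h
  by_cases hx : xi U P x = 0
  · obtain ⟨b, hb⟩ := D.xi_inj (one_mem _) x.2 ((D.xi_QZ (one_mem _)).trans hx.symm)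
    rw [show x = ⟨U b, D.U_mem b⟩ from Subtype.ext (hb.trans (mul_one _)), D.ee_U_mul]
  by_cases hy : xi U P y = 0
  · obtain ⟨b, hb⟩ := D.xi_inj (one_mem _) y.2 ((D.xi_QZ (one_mem _)).trans hy.symm)
    rw [show y = ⟨U b, D.U_mem b⟩ from Subtype.ext (hb.trans (mul_one _)), hU]
  have hinv : ∀ z : Q, xi U P (z⁻¹ : Q) = xi U P z := fun z => by
    rw [Subgroup.coe_inv, D.inv_eq z.2, D.xi_U_mul _ z.2]
  by_cases hxy : xi U P x = xi U P y
  · obtain ⟨b, hb⟩ := D.xi_inj (x⁻¹).2 y.2 ((hinv x).trans hxy)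
    rw [show y = x⁻¹ * ⟨U b, D.U_mem b⟩ from Subtype.ext (hb.trans (D.U_comm b (x⁻¹).2)),
      mul_inv_cancel_left, hU, D.ee_inv, mul_inv_cancel_left]
  obtain ⟨η, hη⟩ := exists_dt_ne_zero hx
  obtain ⟨z, hz, -, rfl⟩ := D.xi_surj (η := η) (fun h0 => hη (by rw [h0, dt_zero_right]))
  have h1 : dt (xi U P (⟨z, hz⟩⁻¹ : Q)) (xi U P y) ≠ 0 := by
    rw [hinv, dt_comm]; exact dt_ne_zero_of_dep h hy hη
  have h2 : dt (xi U P (x * ⟨z, hz⟩ : Q)) (xi U P (⟨z, hz⟩⁻¹ * y : Q)) ≠ 0 := by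
    rw [Subgroup.coe_mul, Subgroup.coe_mul, (D.xi_mul x.2 hz hη).1,
      (D.xi_mul (⟨z, hz⟩⁻¹ : Q).2 y.2 h1).1, hinv, dt_add_left, dt_add_right, dt_add_right, h,
      dt_self, add_zero, zero_add, dt_comm (xi U P z), ← dt_add_left]
    refine dt_ne_zero_of_dep (v := xi U P x) (by rw [dt_add_right, dt_self, h, add_zero])
      (fun h0 => hxy ?_) hη
    rw [← add_zero (xi U P x), ← pair_add_self (xi U P y), ← add_assoc, h0, zero_add]
  calc D.ee X hN (x * y) = D.ee X hN (x * ⟨z, hz⟩ * (⟨z, hz⟩⁻¹ * y)) := by congr 1; group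
    _ = _ := by
      rw [D.ee_mul_indep X hN _ _ h2, D.ee_mul_indep X hN x ⟨z, hz⟩ hη,
        D.ee_mul_indep X hN _ _ h1, D.ee_inv]; group

theorem ee_bij : Function.Bijective (D.ee X hN) := by
  constructor
  · intro x y e
    obtain ⟨b, hb⟩ := D.xi_inj x.2 y.2 (X.bij.1 (congrArg U3.U.a e))
    have h : be a U P ι σ ψ x = be a U P ι σ ψ y := congrArg U3.U.b e
    rw [hb, D.be_U_mul X hN b x.2, right_eq_add, map_eq_zero] at h
    exact Subtype.ext (by rw [hb, h, D.fd.zero, one_mul])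
  · intro u
    obtain ⟨η, hη⟩ := X.bij.2 u.a
    obtain ⟨x, hx, e⟩ : ∃ x ∈ Q, xi U P x = η := by
      by_cases h0 : η = 0
      · exact ⟨1, one_mem _, by rw [D.xi_QZ (one_mem _), h0]⟩
      · obtain ⟨x, hx, -, e⟩ := D.xi_surj h0
        exact ⟨x, hx, e⟩
    obtain ⟨c, hc⟩ := X.fixed (u.b + be a U P ι σ ψ x) (by
      have h1 := D.be_trace X hN hx
      have h2 := u.h
      rw [e, hη] at h1
      rw [map_add]
      linear_combination h1 + h2 + (u.a * σ u.a - u.b - be a U P ι σ ψ x) *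
        CharTwo.two_eq_zero (R := E))
    refine ⟨⟨U c * x, mul_mem (D.U_mem c) hx⟩, U3.U.ext' ?_ ?_⟩
    · change ψ (xi U P (U c * x)) = _
      rw [D.xi_U_mul c hx, e, hη]
    · change be a U P ι σ ψ (U c * x) = _
      rw [D.be_U_mul X hN c hx, ← hc, add_assoc, CharTwo.add_self_eq_zero, add_zero]

omit [CharP F 2] in
theorem ee_can {x g h f : G} (hx : x ∈ Q) (c : Can a t Q x g h f) :
    (D.ee X hN ⟨g, c.g_mem⟩).a * σ (D.ee X hN ⟨x, hx⟩).b = (D.ee X hN ⟨x, hx⟩).a ∧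
      (D.ee X hN ⟨g, c.g_mem⟩).b * (D.ee X hN ⟨x, hx⟩).b = 1 := by
  change ψ (xi U P g) * σ (be a U P ι σ ψ x) = ψ (xi U P x) ∧
    be a U P ι σ ψ g * be a U P ι σ ψ x = 1
  by_cases hx0 : x ∈ QZ G a
  · obtain ⟨b, rfl⟩ := D.fd.surj x hx0
    have hb : b ≠ 0 := fun h0 => c.ne_one D.hS (by rw [h0, D.fd.zero])
    obtain ⟨h', f', c'⟩ := D.can_U hb
    rw [(c.unique D.hS c').1, D.be_U, D.be_U, D.xi_QZ hx0, D.xi_QZ (D.fd.mem _), psi_zero X,
      zero_mul, ← map_mul, inv_mul_cancel₀ hb, map_one]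
    exact ⟨rfl, rfl⟩
  · obtain ⟨v, w, p⟩ := D.crd.ex hx hx0
    have p' := D.crd.swap p c
    have h1 := D.norm_row X hN p
    have h2 := D.norm_row X hN p'
    rw [D.be_eq p, D.be_eq p', D.xi_eq p, D.xi_eq p']
    simp only [X.smul, map_mul, hσ.out, X.σι]
    exact ⟨by linear_combination ι (nn U x) * ψ w * h2,
      by linear_combination ι (nn U g) * (ψ v * σ (ψ v)) * h1 + h2⟩

theorem exists_u3Act : ∃ (j : Option (U3.U E σ) → Ω) (e : Q ≃* U3.U E σ), U3Act t Q j e ∧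
    j none = a ∧ (∀ x : Q, j (some (e x)) = (x : G) • t • a) ∧ ∀ x, e x = D.ee X hN x := by
  have hS := D.hS
  let e : Q ≃* U3.U E σ :=
    MulEquiv.ofBijective (MonoidHom.mk' (D.ee X hN) (D.ee_mul X hN)) (D.ee_bij X hN)
  let j : Option (U3.U E σ) → Ω := fun o => o.elim a (fun u => (e.symm u : G) • t • a)
  have j2 : ∀ x : Q, j (some (e x)) = (x : G) • t • a := fun x => by
    change (e.symm (e x) : G) • t • a = _
    rw [e.symm_apply_apply]
  have hne : ∀ x : Q, (x : G) • t • a ≠ a := fun x =>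
    smul_ne_of_smul_eq hS (smul_of_mem_Q hS x.2) (ta_ne hS)
  have j1 : j (some 1) = t • a := by rw [← map_one e, j2, Subgroup.coe_one, one_smul]
  refine ⟨j, e, ⟨⟨?_, ?_⟩, fun x hx => smul_of_mem_Q hS hx, ?_, j1.symm, ?_, ?_⟩, rfl, j2,
    fun x => rfl⟩
  · rintro (_ | u) (_ | u') h
    · rfl
    · exact absurd h.symm (hne _)
    · exact absurd h (hne _)
    · exact congrArg _ (e.symm.injective (Subtype.ext
        (eq_of_mem_Q_of_smul_eq hS (e.symm u).2 (e.symm u').2 (ta_ne hS) h)))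
  · intro c
    by_cases hc : c = a
    · exact ⟨none, hc.symm⟩
    · obtain ⟨x, hx, h⟩ := exists_smul_ta_eq hS hc
      exact ⟨some (e ⟨x, hx⟩), (j2 _).trans h⟩
  · intro x u
    obtain ⟨y, rfl⟩ := e.surjective u
    rw [← map_mul, j2, j2, Subgroup.coe_mul, mul_smul]
  · rw [j1, tta hS]; rfl
  · intro u u' hu h1 h2
    obtain ⟨⟨x, hx⟩, rfl⟩ := e.surjective u
    obtain ⟨g, h, f, c⟩ := exists_can hS hx (fun h => hu (by
      rw [show (⟨x, hx⟩ : Q) = 1 from Subtype.ext h, map_one]))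
    obtain ⟨k1, k2⟩ := D.ee_can X hN hx c
    have hb := U_b_ne_zero hu
    rw [show u' = e ⟨g, c.g_mem⟩ from U3.U.ext'
      (mul_right_cancel₀ ((map_ne_zero σ).2 hb) (h1.trans k1.symm))
      (mul_right_cancel₀ hb (h2.trans k2.symm)), j2, j2, c.smul hS]

end ext

end UD

section main
variable (hS : IsRankOneSetup G Ω a t Q) [Finite G]
  (hK : ∀ k ∈ KK a t, ∀ l ∈ KK a t, k * l ∈ KK a t) (hq : 2 < Nat.card (QZ G a))
  (h2 : IsPGroup 2 Q) (hna : ∃ x y : Q, x * y ≠ y * x)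
include hS hK hq h2 hna

theorem sq_mem_QZ {x : G} (hx : x ∈ Q) : x * x ∈ QZ G a := by
  have hP := isSuzukiTwoGroup hS hK (QZ_le hS) le_rfl
    (fun k hk x hx => conj_mem_Q hS (KS_le_DD hk).1 hx) h2 hna hq
  obtain ⟨-, -, -, hexp⟩ := Cfsg.Agent.S1138.result hP
  have h4 : x ^ 4 = 1 := congrArg Subtype.val (hexp ▸ Monoid.pow_exponent_eq_one (⟨x, hx⟩ : Q))
  exact (mem_QZ_iff hS).2 ⟨mul_mem hx hx, by rw [← h4]; simp only [pow_succ, pow_zero]; group⟩

theorem exists_struct_of_cube (hcard : Nat.card Q = Nat.card (QZ G a) ^ 3) :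
    ∃ s ∈ II G a, t * s * t = s⁻¹ * t * s := by
  obtain ⟨n, -, hn⟩ := exists_card_QZ hS
  obtain ⟨s, hs, r, hr, e⟩ := exists_structure_eq hS
  rcases struct_dichotomy hS hs hr e (QZ_mul_self hS (sq_mem_QZ hS hK hq h2 hna hr))
    with rfl | ⟨hrr, h5⟩
  · exact ⟨r, hs, e⟩
  · exact absurd (hn ▸ hcard) (card_ne_cube_of_five hS hs h5 (odd_of_sq hS hK hs hr e hrr hn))

/-- The action of `Q` and `t` is that of the unitary group on the isotropic points. -/
theorem exists_u3Act_of_cube (hcard : Nat.card Q = Nat.card (QZ G a) ^ 3) :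
    ∃ (E : Type) (_ : Field E) (_ : Fintype E) (_ : CharP E 2) (σ : E →+* E)
      (_ : Fact (∀ x, σ (σ x) = x)) (j : Option (U3.U E σ) → Ω) (e : Q ≃* U3.U E σ),
      Conj σ (Nat.card (QZ G a)) ∧ U3Act t Q j e ∧ j none = a ∧
        ∀ x : Q, j (some (e x)) = (x : G) • t • a := by
  obtain ⟨s, hs, e⟩ := exists_struct_of_cube hS hK hq h2 hna hcard
  obtain ⟨F, _, _, _, U, fd⟩ := exists_fieldData hS hK hs
  obtain ⟨P, crd⟩ := exists_crd hS hK hs e hcard fd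
  have D : UD a t s Q U P := ⟨hS, e, fd, crd, fun x hx => sq_mem_QZ hS hK hq h2 hna hx⟩
  obtain ⟨A, B, hN⟩ := D.exists_form
  obtain ⟨E, _, _, _, ι, σ, ψ, hc, X⟩ := exists_qext (A := A) (B := B) (fun v hv => by
    by_contra h0
    obtain ⟨x, hx, hx0, rfl⟩ := D.xi_surj h0
    obtain ⟨v, w, p⟩ := crd.ex hx hx0
    exact D.nn_ne p ((hN x hx).trans hv))
  have : Fact (∀ x, σ (σ x) = x) := ⟨hc.invol⟩
  obtain ⟨j, e, h1, h3, h4, -⟩ := D.exists_u3Act X hN
  exact ⟨E, _, inferInstance, inferInstance, σ, this, j, e, fd.card ▸ hc, h1, h3, h4⟩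

/-- **Recognition of `PSU₃(q)`.** -/
theorem recog_psu [FaithfulSMul G Ω] (hcard : Nat.card Q = Nat.card (QZ G a) ^ 3) :
    ∃ (F : Type) (_ : Field F) (_ : Fintype F) (n : ℕ), 2 ≤ n ∧ Nat.card (QZ G a) = 2 ^ n ∧
      Fintype.card F = (2 ^ n) ^ 2 ∧ Nonempty (LL Q t ≃* Cfsg.PSU 3 F (2 ^ n)) := by
  obtain ⟨E, _, _, _, σ, _, j, e, hc, A, -⟩ := exists_u3Act_of_cube hS hK hq h2 hna hcard
  obtain ⟨n, -, hn⟩ := exists_card_QZ hS
  rw [hn] at hc hq
  refine ⟨E, inferInstance, inferInstance, n, ?_, hn, ?_, A.equiv_PSU hc hq.ne'⟩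
  · by_contra h
    have : n = 0 ∨ n = 1 := by omega
    rcases this with rfl | rfl <;> simp at hq
  · rw [← Nat.card_eq_fintype_card, hc.card]

end main

end CL.ROR
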