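import Cfsg.Agent.Base
import Cfsg.Agent.RankOne.Concl
import Cfsg.Agent.RankOneRec.U3Rec
import Cfsg.Agent.RankOneRec.SzRec

/-!
# Recognition theorems (interface; owner helper27)
-/

set_option autoImplicit false
set_option linter.unusedSectionVars false

namespace CL.RankOne

open Cfsg MulAction

variable {G Ω : Type*} [Group G] [MulAction G Ω] {a : Ω} {t : G} {Q : Subgroup G}

/-- Recognition of the Suzuki groups. -/
theorem recog_two (hS : IsRankOneSetup G Ω a t Q) [Finite G] [FaithfulSMul G Ω]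
    [Group.IsSolvable (DD a t)] (hq : 2 < Nat.card (Q0 G a)) (h2 : IsPGroup 2 Q) (hna : NonAb Q)
    (hcard : Nat.card Q = Nat.card (Q0 G a) ^ 2) : Cfsg.Lie.IsoSuzuki (LL Q t) := by
  obtain ⟨x, hx, y, hy, hxy⟩ := hna
  obtain ⟨F, _, _, m, h1, h3, -, -, h4⟩ := CL.ROR.recog_sz hS (fun _ hk _ hl => mul_mem_KK hS hk hl)
    hq h2 ⟨⟨x, hx⟩, ⟨y, hy⟩, fun h => hxy (congrArg Subtype.val h)⟩ hcard
  exact ⟨F, _, _, m, h1, h3, h4⟩

/-- Recognition of the unitary groups. -/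
theorem recog_three (hS : IsRankOneSetup G Ω a t Q) [Finite G] [FaithfulSMul G Ω]
    [Group.IsSolvable (DD a t)] (hq : 2 < Nat.card (Q0 G a)) (h2 : IsPGroup 2 Q) (hna : NonAb Q)
    (hcard : Nat.card Q = Nat.card (Q0 G a) ^ 3) :
    ∃ (F : Type) (_ : Field F) (_ : Fintype F) (n : ℕ), 2 ≤ n ∧
      Fintype.card F = (2 ^ n) ^ 2 ∧ Nonempty (LL Q t ≃* Cfsg.PSU 3 F (2 ^ n)) := by
  obtain ⟨x, hx, y, hy, hxy⟩ := hna
  obtain ⟨F, _, _, n, h1, -, h3, h4⟩ := CL.ROR.recog_psu hS (fun _ hk _ hl => mul_mem_KK hS hk hl)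
    hq h2 ⟨⟨x, hx⟩, ⟨y, hy⟩, fun h => hxy (congrArg Subtype.val h)⟩ hcard
  exact ⟨F, _, _, n, h1, h3, h4⟩

end CL.RankOne
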